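import Cfsg.Agent.Lib.Linear.SympInvolution

/-!
# Parity of Jordan multiplicities of isometries
-/

set_option autoImplicit false

namespace Cfsg.Lib.Linear.JordanForms

open Module

variable {F V : Type*} [Field F] [AddCommGroup V] [Module F V] [FiniteDimensional F V]

/-- The dimension of `ker (N ^ i)`. -/
noncomputable def kd (N : End F V) (i : ℕ) : ℕ := finrank F (LinearMap.ker (N ^ i))

variable (B : LinearMap.BilinForm F V) (u : (End F V)ˣ)

/-- If `g N ^ (j - 1)` gives an alternating form on `ker N ^ j`, the blocks of size `j` are even in number. -/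
theorem parity (hB : B.Nondegenerate) (hrefl : B.IsRefl) (hu : ∀ x y, B (u.val x) (u.val y) = B x y) {j : ℕ} (hj : 1 ≤ j)
    (g : (End F V)ˣ) (hg : Commute g.val (u.val - 1))
    (halt : ∀ x, ((u.val - 1) ^ j) x = 0 → B x ((g.val * (u.val - 1) ^ (j - 1)) x) = 0) :
    kd (u.val - 1) (j - 1) + kd (u.val - 1) (j + 1) ≤ 2 * kd (u.val - 1) j ∧
      Even (2 * kd (u.val - 1) j - (kd (u.val - 1) (j - 1) + kd (u.val - 1) (j + 1))) := by
  classical
  set N : End F V := u.val - 1 with hN
  set ui : End F V := (u⁻¹ : (End F V)ˣ).val with hui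
  have huv : ∀ x, u.val (ui x) = x := fun x => by
    rw [← End.mul_apply, hui, Units.mul_inv, End.one_apply]
  -- the adjoint of `N`
  set N' : End F V := ui - 1 with hN'
  have hN'eq : N' = -(ui * N) := by rw [hN', hN, mul_sub, hui, Units.inv_mul, mul_one]; abel
  have hcomm : Commute ui N := by
    have h1 : Commute u.val N := (Commute.refl _).sub_right (Commute.one_right _)
    exact h1.units_inv_left
  have hright : ∀ x y, B x (N y) = B (N' x) y := fun x y => by
    rw [hN, hN', LinearMap.sub_apply, LinearMap.sub_apply, End.one_apply, End.one_apply, map_sub, map_sub,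
      LinearMap.sub_apply]
    conv_lhs => rw [← huv x, hu]
    rw [huv x]
  have hleft : ∀ x y, B (N x) y = B x (N' y) := fun x y => by
    rw [hN, hN', LinearMap.sub_apply, LinearMap.sub_apply, End.one_apply, End.one_apply, map_sub, map_sub,
      LinearMap.sub_apply]
    conv_lhs => rw [← huv y, hu]
    rw [huv y]
  have hpow : ∀ i x y, B x ((N ^ i) y) = B ((N' ^ i) x) y := by
    intro i
    induction i with
    | zero => intro x y; simp
    | succ i ih => intro x y; rw [pow_succ' N, pow_succ N', End.mul_apply, End.mul_apply, hright, ih]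
  have hN'ker : ∀ i x, (N ^ i) x = 0 → (N' ^ i) x = 0 := fun i x hx => by
    rw [hN'eq, neg_pow, hcomm.mul_pow]
    simp only [End.mul_apply, hx, map_zero]
  -- kernels
  let K : ℕ → Submodule F V := fun i => LinearMap.ker (N ^ i)
  have hmono : ∀ {a b : ℕ}, a ≤ b → K a ≤ K b := fun {a b} hab x hx => by
    show (N ^ b) x = 0
    obtain ⟨c, rfl⟩ := Nat.exists_eq_add_of_le hab
    rw [add_comm, pow_add, End.mul_apply, show (N ^ a) x = 0 from hx, map_zero]
  set NK := (K (j + 1)).map N
  set R := K (j - 1) ⊔ NK with hR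
  have hNK : NK ≤ K j := by
    rintro _ ⟨x, hx, rfl⟩
    show (N ^ j) (N x) = 0
    rw [← End.mul_apply, ← pow_succ]
    exact hx
  have hRle : R ≤ K j := sup_le (hmono (Nat.sub_le _ _)) hNK
  -- the dimension of R
  have hinf : K (j - 1) ⊓ NK = (K j).map N := by
    ext y
    constructor
    · rintro ⟨h1, x, -, rfl⟩
      refine ⟨x, ?_, rfl⟩
      show (N ^ j) x = 0
      rw [show j = j - 1 + 1 by omega, pow_succ, End.mul_apply]
      exact h1
    · rintro ⟨x, hx, rfl⟩
      refine ⟨?_, x, hmono (Nat.le_succ j) hx, rfl⟩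
      show (N ^ (j - 1)) (N x) = 0
      rw [← End.mul_apply, ← pow_succ, Nat.sub_add_cancel hj]
      exact hx
  have hmap : ∀ i, 1 ≤ i → finrank F ((K i).map N) + kd N 1 = kd N i := fun i hi => by
    have h := LinearMap.finrank_range_add_finrank_ker (N.domRestrict (K i))
    rw [LinearMap.range_domRestrict] at h
    rw [show finrank F (LinearMap.ker (N.domRestrict (K i))) = kd N 1 from ?_] at h
    · exact h
    · rw [LinearMap.ker_domRestrict, kd, pow_one]
      exact (Submodule.comapSubtypeEquivOfLe (by simpa [K] using hmono hi)).finrank_eq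
  have hdimR : finrank F R + kd N j = kd N (j - 1) + kd N (j + 1) := by
    have h := Submodule.finrank_sup_add_finrank_inf_eq (K (j - 1)) NK
    rw [hinf, ← hR] at h
    have h1 := hmap j hj
    have h2 : finrank F NK + kd N 1 = kd N (j + 1) := hmap (j + 1) (by omega)
    have h3 : finrank F (K (j - 1)) = kd N (j - 1) := rfl
    omega
  have hRle' := Submodule.finrank_mono hRle
  change finrank F R ≤ kd N j at hRle'
  refine ⟨by omega, ?_⟩
  obtain ⟨X', hX'⟩ := Submodule.exists_isCompl R
  set X := X' ⊓ K j
  have hsup : R ⊔ X = K j := by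
    rw [← sup_inf_assoc_of_le X' hRle, hX'.sup_eq_top, top_inf_eq]
  have hdisj : R ⊓ X = ⊥ := eq_bot_iff.2 fun x hx => (Submodule.disjoint_def.1 hX'.disjoint x hx.1 hx.2.1) ▸ Submodule.zero_mem _
  have hdimX : finrank F X + finrank F R = kd N j := by
    have h := Submodule.finrank_sup_add_finrank_inf_eq R X
    rw [hsup, hdisj, finrank_bot] at h
    show finrank F X + finrank F R = finrank F (K j)
    omega
  suffices hE : Even (finrank F X) by
    rwa [show 2 * kd N j - (kd N (j - 1) + kd N (j + 1)) = finrank F X by omega]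
  refine SympInv.even_finrank (SympInv.assoc B (g.val * N ^ (j - 1))) _ X le_rfl (fun x hx => halt x hx.2) ?_
  intro x hx hx0
  by_contra hc
  push Not at hc
  apply hx0
  -- `x` is orthogonal to the image of `ker N ^ j`
  have hall : ∀ y ∈ K j, B x (g.val ((N ^ (j - 1)) y)) = 0 := by
    intro y hy
    rw [← hsup] at hy
    obtain ⟨r, hr, z, hz, rfl⟩ := Submodule.mem_sup.1 hy
    rw [map_add, map_add, map_add, show B x (g.val ((N ^ (j - 1)) z)) = 0 from hc z hz, add_zero]
    obtain ⟨a, ha, b, hb, rfl⟩ := Submodule.mem_sup.1 hr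
    obtain ⟨w, hw, rfl⟩ := hb
    rw [map_add, map_add, map_add, show (N ^ (j - 1)) a = 0 from ha, map_zero, map_zero, zero_add,
      ← End.mul_apply (N ^ (j - 1)), ← pow_succ, Nat.sub_add_cancel hj,
      ← End.mul_apply g.val, (hg.pow_right j).eq, End.mul_apply, hpow, hN'ker j x hx.2, map_zero,
      LinearMap.zero_apply]
  -- identify the orthogonal
  set S := LinearMap.range (N ^ (j - 1)) ⊓ LinearMap.ker N
  have horth : x ∈ B.orthogonal S := by
    intro s hs
    refine hrefl _ _ ?_
    obtain ⟨⟨y, rfl⟩, hy⟩ := hs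
    have hy' : y ∈ K j := by
      show (N ^ j) y = 0
      rw [show j = 1 + (j - 1) by omega, pow_add, pow_one, End.mul_apply]
      exact hy
    set gi : End F V := (g⁻¹ : (End F V)ˣ).val
    have hgi : Commute gi N := hg.units_inv_left
    have hy2 : gi y ∈ K j := by
      show (N ^ j) (gi y) = 0
      rw [← End.mul_apply, ← (hgi.pow_right j).eq, End.mul_apply, show (N ^ j) y = 0 from hy', map_zero]
    have := hall _ hy2
    rwa [← End.mul_apply (N ^ (j - 1)), ← (hgi.pow_right (j - 1)).eq, End.mul_apply, ← End.mul_apply g.val,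
      show g.val * gi = 1 from Units.mul_inv g, End.one_apply] at this
  have hle : B.orthogonal (K (j - 1) ⊔ LinearMap.range N) ≤ S := by
    intro y hy
    refine ⟨?_, ?_⟩
    · have hr : LinearMap.range (N ^ (j - 1)) = B.orthogonal (K (j - 1)) := by
        refine Submodule.eq_of_le_of_finrank_eq ?_ ?_
        · rintro _ ⟨z, rfl⟩ k hk
          show B k ((N ^ (j - 1)) z) = 0
          rw [hpow, hN'ker _ k hk, map_zero, LinearMap.zero_apply]
        · rw [LinearMap.BilinForm.finrank_orthogonal hB]
          have := LinearMap.finrank_range_add_finrank_ker (N ^ (j - 1))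
          show _ = _ - finrank F (LinearMap.ker (N ^ (j - 1)))
          omega
      rw [hr]
      exact fun k hk => hy k (Submodule.mem_sup_left hk)
    · show N y = 0
      have h0 : N' y = 0 := hB.2 _ fun z => by
        rw [← hleft]; exact hy _ (Submodule.mem_sup_right (LinearMap.mem_range_self N z))
      have : N y = -(u.val (N' y)) := by
        rw [hN'eq, LinearMap.neg_apply, map_neg, neg_neg, End.mul_apply, huv]
      rw [this, h0, map_zero, neg_zero]
  have hx2 : x ∈ K (j - 1) ⊔ LinearMap.range N := by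
    rw [← LinearMap.BilinForm.orthogonal_orthogonal hB hrefl (K (j - 1) ⊔ LinearMap.range N)]
    exact LinearMap.BilinForm.orthogonal_le hle horth
  obtain ⟨a, ha, b, ⟨w, rfl⟩, hab⟩ := Submodule.mem_sup.1 hx2
  have hw : w ∈ K (j + 1) := by
    show (N ^ (j + 1)) w = 0
    rw [pow_succ, End.mul_apply, show N w = x - a by rw [← hab]; abel, map_sub, show (N ^ j) x = 0 from hx.2,
      show (N ^ j) a = 0 from hmono (Nat.sub_le _ _) ha, sub_zero]
  have hxR : x ∈ R := hab ▸ Submodule.add_mem _ (Submodule.mem_sup_left ha) (Submodule.mem_sup_right ⟨w, hw, rfl⟩)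
  have : x ∈ R ⊓ X := ⟨hxR, hx⟩
  rwa [hdisj, Submodule.mem_bot] at this

end Cfsg.Lib.Linear.JordanForms
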