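import Cfsg.Agent.Lib.Linear.JordanForms.Build
import Cfsg.Agent.Lib.Linear.JordanForms.Parity
import Cfsg.Agent.Lib.Linear.SymplecticGroup
import Cfsg.Agent.Lib.Linear.SymplecticDecomp
import Cfsg.Agent.Lib.Linear.OrthBasic

/-!
# Jordan types of unipotent elements of symplectic and orthogonal groups
-/

set_option autoImplicit false
set_option maxHeartbeats 800000

namespace Cfsg.Lib.Linear.JordanForms

open Module
open scoped Matrix

variable {F : Type*} [Field F] {t : ℕ} (d : Fin t → ℕ)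

theorem gbas_apply (k : Fin t) (b : Fin (d k)) : gbas (F := F) d ⟨k, b⟩ = Pi.single k (gen ^ (b : ℕ)) := by
  classical
  rw [gbas, Pi.basis_apply, bas_apply]

theorem UU_pow_apply (i : ℕ) (x : Mdl F d) (k : Fin t) : (((UU d - 1) ^ i : End F (Mdl F d)) x) k = gen ^ i * x k := by
  induction i with
  | zero => simp
  | succ i ih =>
    rw [pow_succ', End.mul_apply, LinearMap.sub_apply, End.one_apply, Pi.sub_apply, UU_apply, ih, uu, pow_succ']
    ring

theorem rank_jordan_pow (i : ℕ) :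
    (((Cfsg.jordanTypeMatrix d F : Matrix ((k : Fin t) × Fin (d k)) ((k : Fin t) × Fin (d k)) F) - 1) ^ i).rank =
      ∑ k, (d k - i) := by
  classical
  have h1 : Matrix.toLinAlgEquiv (gbas d) (((Cfsg.jordanTypeMatrix d F :
      Matrix ((k : Fin t) × Fin (d k)) ((k : Fin t) × Fin (d k)) F) - 1) ^ i) = ((UU d - 1) ^ i : End F (Mdl F d)) := by
    rw [map_pow, map_sub, map_one, ← toMatrix_UU]
    congr 2
    exact Matrix.toLin_toMatrix _ _ _
  rw [Matrix.rank_eq_finrank_range_toLin _ (gbas d) (gbas d)]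
  refine (congrArg (fun f : End F (Mdl F d) => finrank F (LinearMap.range f)) h1).trans ?_
  set φ : End F (Mdl F d) := (UU d - 1) ^ i
  let w : (Σ k : Fin t, Fin (d k - i)) → Mdl F d := fun p => gbas d ⟨p.1, ⟨p.2.1 + i, by omega⟩⟩
  have hw : LinearIndependent F w := by
    refine (gbas (F := F) d).linearIndependent.comp
      (fun p : Σ k : Fin t, Fin (d k - i) => (⟨p.1, ⟨p.2.1 + i, by omega⟩⟩ : (k : Fin t) × Fin (d k))) ?_
    rintro ⟨k, a⟩ ⟨l, b⟩ h
    simp only [Sigma.mk.injEq] at h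
    obtain ⟨rfl, h⟩ := h
    simp only [heq_eq_eq, Fin.mk.injEq, add_left_inj] at h
    rw [Fin.ext h]
  have himg : ∀ k (b : Fin (d k)), φ (gbas d ⟨k, b⟩) = Pi.single k (gen ^ ((b : ℕ) + i)) := fun k b => by
    funext l
    rw [UU_pow_apply, gbas_apply]
    rcases eq_or_ne l k with rfl | h
    · simp [← pow_add, add_comm]
    · simp [h]
  have hr : LinearMap.range φ = Submodule.span F (Set.range w) := by
    rw [LinearMap.range_eq_map, ← (gbas (F := F) d).span_eq, Submodule.map_span]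
    refine le_antisymm (Submodule.span_le.2 ?_) (Submodule.span_le.2 ?_)
    · rintro _ ⟨_, ⟨⟨k, b⟩, rfl⟩, rfl⟩
      rw [himg]
      by_cases hb : (b : ℕ) < d k - i
      · exact Submodule.subset_span ⟨⟨k, ⟨b, hb⟩⟩, gbas_apply _ _ _⟩
      · rw [gen_pow_of_le (by omega), Pi.single_zero]
        exact Submodule.zero_mem _
    · rintro _ ⟨⟨k, a⟩, rfl⟩
      refine Submodule.subset_span ⟨gbas d ⟨k, ⟨a.1, by omega⟩⟩, ⟨_, rfl⟩, ?_⟩
      rw [himg]
      exact (gbas_apply (F := F) d k ⟨a.1 + i, by omega⟩).symm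
  rw [hr, finrank_span_eq_card hw, Fintype.card_sigma]
  simp

theorem kd_of_isConj {n : Type} [Fintype n] [DecidableEq n] (e : ((k : Fin t) × Fin (d k)) ≃ n) {M : Matrix n n F}
    (h : IsConj (Matrix.reindex e e (Cfsg.jordanTypeMatrix d F)) M) (i : ℕ) :
    kd (Matrix.toLinAlgEquiv' M - 1 : End F (n → F)) i + ∑ k, (d k - i) = ∑ k, d k := by
  classical
  obtain ⟨c, hc⟩ := h
  set J : Matrix ((k : Fin t) × Fin (d k)) ((k : Fin t) × Fin (d k)) F := Cfsg.jordanTypeMatrix d F
  have e1 : (M - 1) ^ i = c.val * ((Matrix.reindexAlgEquiv F F e (J - 1)) ^ i) * (c⁻¹ : (Matrix n n F)ˣ).val := by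
    have h2 : M - 1 = c.val * Matrix.reindexAlgEquiv F F e (J - 1) * (c⁻¹ : (Matrix n n F)ˣ).val := by
      rw [map_sub, map_one, mul_sub, mul_one, sub_mul, Units.mul_inv]
      congr 1
      rw [show Matrix.reindexAlgEquiv F F e J = Matrix.reindex e e J from rfl, hc, mul_assoc, Units.mul_inv, mul_one]
    rw [h2, Units.conj_pow]
  have hr : ((M - 1) ^ i).rank = ∑ k, (d k - i) := by
    rw [e1, Matrix.rank_mul_eq_left_of_isUnit_det _ _ ((Matrix.isUnit_iff_isUnit_det _).1 (c⁻¹).isUnit),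
      Matrix.rank_mul_eq_right_of_isUnit_det _ _ ((Matrix.isUnit_iff_isUnit_det _).1 c.isUnit), ← map_pow,
      Matrix.coe_reindexAlgEquiv, Matrix.rank_reindex, rank_jordan_pow]
  have h1 := LinearMap.finrank_range_add_finrank_ker (Matrix.toLinAlgEquiv' ((M - 1) ^ i) : End F (n → F))
  rw [Module.finrank_pi, ← Fintype.card_congr e, Fintype.card_sigma] at h1
  simp only [Fintype.card_fin] at h1
  rw [← h1, kd, map_pow, map_sub, map_one, ← hr, add_comm]
  congr 1
  rw [← map_one Matrix.toLinAlgEquiv', ← map_sub, ← map_pow]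
  rfl

theorem mult_eq (j : ℕ) (hj : 1 ≤ j) (K : ℕ → ℕ) (hK : ∀ i, K i + ∑ k, (d k - i) = ∑ k, d k)
    (hle : K (j - 1) + K (j + 1) ≤ 2 * K j) (he : Even (2 * K j - (K (j - 1) + K (j + 1)))) :
    Even (Finset.univ.filter (fun k : Fin t => d k = j)).card := by
  have key : ∀ k, (d k - (j - 1)) + (d k - (j + 1)) = 2 * (d k - j) + if d k = j then 1 else 0 := fun k => by
    split_ifs <;> omega
  have h1 : ∑ k, (d k - (j - 1)) + ∑ k, (d k - (j + 1)) =
      2 * ∑ k, (d k - j) + (Finset.univ.filter (fun k : Fin t => d k = j)).card := by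
    rw [← Finset.sum_add_distrib, Finset.sum_congr rfl fun k _ => key k, Finset.sum_add_distrib, Finset.mul_sum,
      Finset.card_filter]
  have := hK (j - 1); have := hK j; have := hK (j + 1)
  rwa [show (Finset.univ.filter (fun k : Fin t => d k = j)).card = 2 * K j - (K (j - 1) + K (j + 1)) by omega]

section OnlyIf

variable {n : Type} [Fintype n] [DecidableEq n]

theorem unit_sq_identity {R : Type*} [Ring R] {a b : R} (h : b * a = 1) : 2 - a - b = -b * (a - 1) ^ 2 := by
  have h2 : b * (a * a) = a := by rw [← mul_assoc, h, one_mul]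
  simp only [pow_two, mul_sub, sub_mul, neg_mul, one_mul, mul_one, h, h2]
  rw [← one_add_one_eq_two]
  abel

theorem z_facts (B : LinearMap.BilinForm F (n → F)) (u : (End F (n → F))ˣ)
    (hu : ∀ x y, B (u.val x) (u.val y) = B x y) :
    (2 - u.val - (u⁻¹ : (End F (n → F))ˣ).val) = -((u⁻¹ : (End F (n → F))ˣ).val) * (u.val - 1) ^ 2 ∧
    (∀ x y, B ((2 - u.val - (u⁻¹ : (End F (n → F))ˣ).val) x) y = B x ((2 - u.val - (u⁻¹ : (End F (n → F))ˣ).val) y)) ∧
    (∀ x y, B x ((u⁻¹ : (End F (n → F))ˣ).val y) = B (u.val x) y) := by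
  set a := u.val
  set b := (u⁻¹ : (End F (n → F))ˣ).val
  have hba : b * a = 1 := Units.inv_mul u
  have hab : ∀ x, a (b x) = x := fun x => by rw [← End.mul_apply, show a * b = 1 from Units.mul_inv u, End.one_apply]
  have h3 : ∀ x y, B x (b y) = B (a x) y := fun x y => by
    conv_rhs => rw [← hab y, hu]
  have h4 : ∀ x y, B (b x) y = B x (a y) := fun x y => by
    conv_rhs => rw [← hab x, hu]
  refine ⟨?_, fun x y => ?_, h3⟩
  · exact unit_sq_identity hba
  · simp only [show (2 : End F (n → F)) = 1 + 1 from one_add_one_eq_two.symm, LinearMap.sub_apply, LinearMap.add_apply,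
      End.one_apply, map_sub, map_add]
    rw [h3, h4]
    ring

theorem parity_alt {M : Matrix n n F} (B : LinearMap.BilinForm F (n → F)) (hB : B.Nondegenerate) (hA : B.IsAlt)
    (hu : IsUnit M) (hM : ∀ x y, B (M *ᵥ x) (M *ᵥ y) = B x y) (e : ((k : Fin t) × Fin (d k)) ≃ n)
    (h : IsConj (Matrix.reindex e e (Cfsg.jordanTypeMatrix d F)) M) (j : ℕ) (hj : Odd j) :
    Even (Finset.univ.filter (fun k : Fin t => d k = j)).card := by
  let u : (End F (n → F))ˣ := (hu.map Matrix.toLinAlgEquiv').unit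
  have huv : u.val = Matrix.toLinAlgEquiv' M := rfl
  have hu' : ∀ x y, B (u.val x) (u.val y) = B x y := fun x y => hM x y
  obtain ⟨hz, hzs, h3⟩ := z_facts B u hu'
  set z := 2 - u.val - (u⁻¹ : (End F (n → F))ˣ).val with hzdef
  obtain ⟨i, rfl⟩ := hj
  have hcomm : Commute (-(u⁻¹ : (End F (n → F))ˣ).val) (u.val - 1) :=
    (((Commute.refl u.val).units_inv_left).sub_right (Commute.one_right _)).neg_left
  have halt : ∀ i x, B x ((z ^ i) x) = 0 := by
    have h1 : ∀ x, B x (z x) = 0 := fun x => by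
      simp only [hzdef, show (2 : End F (n → F)) = 1 + 1 from one_add_one_eq_two.symm, LinearMap.sub_apply,
        LinearMap.add_apply, End.one_apply, map_sub, map_add, hA.self_eq_zero, h3]
      rw [show B (u.val x) x = -B x (u.val x) from (LinearMap.IsAlt.neg hA x (u.val x)).symm]
      ring
    intro i
    induction i using Nat.twoStepInduction with
    | zero => exact fun x => hA.self_eq_zero x
    | one => simpa using h1
    | more i ih _ =>
      intro x
      rw [show i + 1 + 1 = 1 + (i + 1) by omega, pow_add, pow_one, pow_succ, End.mul_apply, End.mul_apply, ← hzs]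
      exact ih (z x)
  obtain ⟨hle, he⟩ := parity B u hB hA.isRefl hu' (j := 2 * i + 1) (by omega) ((-u⁻¹) ^ i)
    (by rw [Units.val_pow_eq_pow_val, Units.val_neg]; exact hcomm.pow_left i) (fun x _ => by
      rw [Units.val_pow_eq_pow_val, Units.val_neg, show 2 * i + 1 - 1 = 2 * i by omega, pow_mul,
        ← (hcomm.pow_right 2).mul_pow, ← hz]
      exact halt i x)
  exact mult_eq d _ (by omega) (kd (u.val - 1)) (kd_of_isConj d e h) hle he

theorem parity_sym {M : Matrix n n F} (B : LinearMap.BilinForm F (n → F)) (hB : B.Nondegenerate) (h2 : (2 : F) ≠ 0)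
    (hS : ∀ x y, B x y = B y x) (hu : IsUnit M) (hM : ∀ x y, B (M *ᵥ x) (M *ᵥ y) = B x y)
    (e : ((k : Fin t) × Fin (d k)) ≃ n) (h : IsConj (Matrix.reindex e e (Cfsg.jordanTypeMatrix d F)) M) (j : ℕ)
    (hj : Even j) (hj0 : 0 < j) :
    Even (Finset.univ.filter (fun k : Fin t => d k = j)).card := by
  let u : (End F (n → F))ˣ := (hu.map Matrix.toLinAlgEquiv').unit
  have hu' : ∀ x y, B (u.val x) (u.val y) = B x y := fun x y => hM x y
  obtain ⟨hz, hzs, h3⟩ := z_facts B u hu'
  set b := (u⁻¹ : (End F (n → F))ˣ).val with hb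
  set z := 2 - u.val - b with hzdef
  obtain ⟨i, rfl⟩ : ∃ i, j = 2 * i + 2 := ⟨j / 2 - 1, by rw [Nat.even_iff] at hj; omega⟩
  have hcb : Commute b (u.val - 1) := ((Commute.refl u.val).units_inv_left).sub_right (Commute.one_right _)
  have hnil : IsNilpotent (u.val - 1) := by
    refine ⟨∑ k, d k, LinearMap.ker_eq_top.1 (Submodule.eq_top_of_finrank_eq ?_)⟩
    have := kd_of_isConj d e h (∑ k, d k)
    rw [show ∑ k, (d k - ∑ l, d l) = 0 from Finset.sum_eq_zero fun k _ => by
      have : d k ≤ ∑ l, d l := Finset.single_le_sum (fun l _ => Nat.zero_le _) (Finset.mem_univ k)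
      omega, add_zero] at this
    rw [Module.finrank_pi, ← Fintype.card_congr e, Fintype.card_sigma]
    simp only [Fintype.card_fin]
    exact this
  have hw : IsUnit (1 + b) := by
    have e1 : u.val * (1 + b) = (2 : F) • (1 : End F (n → F)) + (u.val - 1) := by
      rw [mul_add, mul_one, hb, Units.mul_inv, two_smul]; abel
    have h1 : IsUnit ((2 : F) • (1 : End F (n → F)) + (u.val - 1)) :=
      IsNilpotent.isUnit_add_left_of_commute hnil (by
        rw [← Algebra.algebraMap_eq_smul_one]; exact (Ne.isUnit h2).map _) ((Commute.one_right _).smul_right _)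
    rw [← e1] at h1
    have h2' := (u⁻¹).isUnit.mul h1
    rwa [← mul_assoc, Units.inv_mul, one_mul] at h2'
  set g : (End F (n → F))ˣ := hw.unit * (-u⁻¹) ^ i with hg
  have hgv : g.val = (1 + b) * (-b) ^ i := by
    rw [hg, Units.val_mul, Units.val_pow_eq_pow_val, Units.val_neg]; rfl
  have hc1 : Commute (1 + b) (u.val - 1) := (Commute.one_left _).add_left hcb
  have hcomm : Commute g.val (u.val - 1) := by rw [hgv]; exact hc1.mul_left (hcb.neg_left.pow_left i)
  have hf : g.val * (u.val - 1) ^ (2 * i + 1) = (u.val - b) * z ^ i := by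
    rw [hgv, hz, (hcb.neg_left.pow_right 2).mul_pow, ← pow_mul, pow_succ', ← mul_assoc, mul_assoc (1 + b),
      (hcb.neg_left.pow_left i).eq, ← mul_assoc (1 + b), show (1 + b) * (u.val - 1) = u.val - b by
        rw [add_mul, one_mul, mul_sub, mul_one, hb, Units.inv_mul]; abel]
    rw [mul_assoc]
  obtain ⟨hle, he⟩ := parity B u hB (fun x y hxy => by rw [hS]; exact hxy) hu' (j := 2 * i + 2) (by omega) g hcomm
    (fun x _ => by
      rw [show 2 * i + 2 - 1 = 2 * i + 1 by omega, hf]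
      have hzi : ∀ i x y, B ((z ^ i) x) y = B x ((z ^ i) y) := by
        intro i
        induction i with
        | zero => intro x y; simp
        | succ i ih => intro x y; rw [pow_succ, End.mul_apply, ih, hzs, ← End.mul_apply z, ← pow_succ', pow_succ]
      have hsk : ∀ x y, B x ((u.val - b) y) = -B ((u.val - b) x) y := fun x y => by
        have h4 : B x (u.val y) = B (b x) y := by
          rw [hS (b x), h3, hS]
        simp only [LinearMap.sub_apply, map_sub, h3, h4]
        ring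
      have hcz : Commute (u.val - b) (z ^ i) := by
        refine Commute.pow_right ?_ i
        have hub : Commute u.val b := (Commute.refl u.val).units_inv_right
        have h21 : ∀ a : End F (n → F), Commute a 2 := fun a => Commute.ofNat_right a 2
        exact ((((h21 _).sub_right (Commute.refl _)).sub_right hub).sub_left
          (((h21 _).sub_right hub.symm).sub_right (Commute.refl _)))
      have h5 : B x (((u.val - b) * z ^ i) x) = -B x (((u.val - b) * z ^ i) x) := by
        conv_lhs => rw [End.mul_apply, hsk, ← hzi, hS]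
        conv_lhs => rw [← End.mul_apply, ← hcz.eq]
      exact (mul_eq_zero.1 (by rw [two_mul]; exact eq_neg_iff_add_eq_zero.1 h5)).resolve_left h2)
  exact mult_eq d _ (by omega) (kd (u.val - 1)) (kd_of_isConj d e h) hle he

end OnlyIf

section IfPart

/-- Transport of the model to coordinates. -/
theorem isConj_of_map {n : Type} [Fintype n] [DecidableEq n] (e : ((k : Fin t) × Fin (d k)) ≃ n)
    (φ : Mdl F d ≃ₗ[F] (n → F)) :
    IsConj (Matrix.reindex e e (Cfsg.jordanTypeMatrix d F)) (LinearMap.toMatrix' (φ.toLinearMap ∘ₗ UU d ∘ₗ φ.symm.toLinearMap)) := by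
  classical
  set f : End F (n → F) := φ.toLinearMap ∘ₗ UU d ∘ₗ φ.symm.toLinearMap
  let b' := ((gbas (F := F) d).map φ).reindex e
  let σ := Pi.basisFun F n
  have h1 : LinearMap.toMatrix b' b' f = Matrix.reindex e e (Cfsg.jordanTypeMatrix d F) := by
    rw [← toMatrix_UU]
    ext a b
    rw [LinearMap.toMatrix_apply, Matrix.reindex_apply, Matrix.submatrix_apply, LinearMap.toMatrix_apply]
    simp [b', f]
  have h2 : LinearMap.toMatrix' f = LinearMap.toMatrix σ σ f := by
    rw [← LinearMap.toMatrix_eq_toMatrix']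
  let c : (Matrix n n F)ˣ := ⟨σ.toMatrix b', b'.toMatrix σ, σ.toMatrix_mul_toMatrix_flip b', b'.toMatrix_mul_toMatrix_flip σ⟩
  refine ⟨c, ?_⟩
  show σ.toMatrix b' * _ = _ * σ.toMatrix b'
  rw [← h1, h2, basis_toMatrix_mul_linearMap_toMatrix, linearMap_toMatrix_mul_basis_toMatrix]

/-- A map preserving the diagonal of a bilinear form preserves its symmetrisation. -/
theorem polar_inv {V : Type*} [AddCommGroup V] [Module F V] (C : LinearMap.BilinForm F V) (g : V →ₗ[F] V)
    (h : ∀ a, C (g a) (g a) = C a a) (a b : V) : C (g a) (g b) + C (g b) (g a) = C a b + C b a := by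
  have h1 := h (a + b)
  simp only [map_add, LinearMap.add_apply] at h1
  linear_combination h1 - h a - h b

/-- The alternating form of a single block of even size. -/
theorem alt_block {n : ℕ} (hn : n ≠ 0) (hev : Even n) : ∃ f : LinearMap.BilinForm F (A F n), (∀ a, f a a = 0) ∧
      (∀ a b, f (uu * a) (uu * b) = f a b) ∧ ∀ a, a ≠ 0 → ∃ b, f a b ≠ 0 := by
  by_cases h2 : (2 : F) = 0
  · haveI : CharP F 2 := CharTwo.of_one_ne_zero_of_two_eq_zero one_ne_zero h2
    refine ⟨qfrm n + (qfrm n).flip, fun a => ?_, fun a b => ?_, fun a ha => qfrm_polar_nondeg hn hev ha⟩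
    · exact CharTwo.add_self_eq_zero _
    · exact polar_inv (qfrm n) (LinearMap.mulLeft F uu) (qfrm_uu hn) a b
  · obtain ⟨τ, hτ, hτs⟩ := exists_tau (F := F) h2 hn
    refine ⟨frm τ, fun a => ?_, fun a b => frm_uu τ a b, fun a ha => frm_nondeg τ hτ ha⟩
    have h1 : τ (a * st a) = -τ (a * st a) := by
      conv_lhs => rw [show a * st a = st (a * st a) by rw [map_mul, st_st, mul_comm], hτs]
      obtain ⟨r, hr⟩ := hev
      rw [Odd.neg_one_pow ⟨r - 1, by omega⟩, neg_one_mul]
    exact (mul_eq_zero.1 (by rw [two_mul]; exact eq_neg_iff_add_eq_zero.1 h1)).resolve_left h2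

theorem exists_alt_form (hd : ∀ k, 1 ≤ d k)
    (hpar : ∀ j : ℕ, Odd j → Even (Finset.univ.filter (fun k : Fin t => d k = j)).card) :
    ∃ B : LinearMap.BilinForm F (Mdl F d), B.IsAlt ∧ (∀ x, x ≠ 0 → ∃ y, B x y ≠ 0) ∧
      ∀ x y, B (UU d x) (UU d y) = B x y := by
  classical
  have hd' : ∀ k, d k ≠ 0 := fun k => by have := hd k; omega
  obtain ⟨π, hπ, hdπ, hfix⟩ := exists_pairing (d := d) (fun j => Odd j) hpar
  have hblock := fun k (hk : π k = k) => alt_block (F := F) (hd' k) (Nat.not_odd_iff_even.1 (hfix k hk))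
  let f : (k : Fin t) → LinearMap.BilinForm F (A F (d k)) := fun k =>
    if h : π k = k then (hblock k h).choose else 0
  have hf : ∀ k (h : π k = k), (∀ a, f k a a = 0) ∧
      (∀ a b, f k (uu * a) (uu * b) = f k a b) ∧ ∀ a, a ≠ 0 → ∃ b, f k a b ≠ 0 := fun k h => by
    simp only [f, dif_pos h]; exact (hblock k h).choose_spec
  refine ⟨fixedPart π f + pairPart π hd' hdπ - (pairPart π hd' hdπ).flip, fun x => ?_, fun x hx => ?_, fun x y => ?_⟩
  · simp only [LinearMap.sub_apply, LinearMap.add_apply, LinearMap.BilinForm.flip_apply, add_sub_cancel_right, fixedPart_apply]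
    exact Finset.sum_eq_zero fun k hk => (hf k (Finset.mem_filter.1 hk).2).1 _
  · obtain ⟨y, hy⟩ := nondeg π hd' hdπ hπ f (fun k hk => (hf k hk).2.2) (ε := -1) (neg_ne_zero.2 one_ne_zero) hx
    exact ⟨y, by simpa [sub_eq_add_neg] using hy⟩
  · simp only [LinearMap.sub_apply, LinearMap.add_apply, LinearMap.BilinForm.flip_apply, pairPart_UU]
    rw [fixedPart_UU π f fun k hk => (hf k hk).2.1]

theorem exists_quad_form (bad : ℕ → Prop) (hd : ∀ k, 1 ≤ d k)
    (hpar : ∀ j : ℕ, bad j → Even (Finset.univ.filter (fun k : Fin t => d k = j)).card)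
    (hblock : ∀ n, n ≠ 0 → ¬ bad n → ∃ f : LinearMap.BilinForm F (A F n), (∀ a, f (uu * a) (uu * a) = f a a) ∧
      ∀ a, a ≠ 0 → ∃ b, f a b + f b a ≠ 0) :
    ∃ C : LinearMap.BilinForm F (Mdl F d), (∀ x, C (UU d x) (UU d x) = C x x) ∧
      ∀ x, x ≠ 0 → ∃ y, C x y + C y x ≠ 0 := by
  classical
  have hd' : ∀ k, d k ≠ 0 := fun k => by have := hd k; omega
  obtain ⟨π, hπ, hdπ, hfix⟩ := exists_pairing (d := d) bad hpar
  let f : (k : Fin t) → LinearMap.BilinForm F (A F (d k)) := fun k =>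
    if h : π k = k then (hblock (d k) (hd' k) (hfix k h)).choose else 0
  have hf : ∀ k, π k = k → (∀ a, f k (uu * a) (uu * a) = f k a a) ∧ ∀ a, a ≠ 0 → ∃ b, f k a b + f k b a ≠ 0 :=
    fun k h => by simp only [f, dif_pos h]; exact (hblock (d k) (hd' k) (hfix k h)).choose_spec
  refine ⟨fixedPart π f + pairPart π hd' hdπ, fun x => ?_, fun x hx => ?_⟩
  · simp only [LinearMap.add_apply, pairPart_UU]
    rw [fixedPart_UU_self π f fun k hk => (hf k hk).1]
  · obtain ⟨y, hy⟩ := nondeg π hd' hdπ hπ (fun k => f k + (f k).flip) (fun k hk => (hf k hk).2) (ε := 1) one_ne_zero hx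
    refine ⟨y, fun h0 => hy ?_⟩
    rw [one_mul, ← h0]
    simp only [fixedPart_apply, LinearMap.add_apply, LinearMap.BilinForm.flip_apply, Finset.sum_add_distrib]
    ring

theorem nondeg_of_left {V : Type*} [AddCommGroup V] [Module F V] (B : LinearMap.BilinForm F V) (hr : B.IsRefl)
    (h : ∀ x, x ≠ 0 → ∃ y, B x y ≠ 0) : B.Nondegenerate := by
  refine ⟨fun x hx => ?_, fun x hx => ?_⟩ <;> by_contra h0 <;> obtain ⟨y, hy⟩ := h x h0
  · exact hy (hx y)
  · exact hy (hr _ _ (hx y))

theorem symplectic_of_parity {m : ℕ} (hd : ∀ k, 1 ≤ d k) (hsum : ∑ k, d k = 2 * m)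
    (hpar : ∀ j : ℕ, Odd j → Even (Finset.univ.filter (fun k : Fin t => d k = j)).card) :
    ∃ e : ((k : Fin t) × Fin (d k)) ≃ (Fin m ⊕ Fin m), ∃ M : Matrix.symplecticGroup (Fin m) F,
      IsConj (Matrix.reindex e e (Cfsg.jordanTypeMatrix d F)) (M : Matrix (Fin m ⊕ Fin m) (Fin m ⊕ Fin m) F) := by
  classical
  let e : ((k : Fin t) × Fin (d k)) ≃ (Fin m ⊕ Fin m) := Fintype.equivOfCardEq (by simp [hsum]; omega)
  obtain ⟨B, hA, hnd, hinv⟩ := exists_alt_form (F := F) d hd hpar
  haveI : FiniteDimensional F (Mdl F d) := Module.Finite.of_basis (gbas d)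
  let S := Symp.spB m F
  let V := Fin m ⊕ Fin m → F
  let P : LinearMap.BilinForm F (Mdl F d × V) := B.compl₁₂ (LinearMap.fst F _ _) (LinearMap.fst F _ _) +
    S.compl₁₂ (LinearMap.snd F _ _) (LinearMap.snd F _ _)
  have hP : ∀ x y, P x y = B x.1 y.1 + S x.2 y.2 := fun x y => rfl
  have hPA : P.IsAlt := fun x => by rw [hP, hA.self_eq_zero, (Symp.spB_isAlt m F).self_eq_zero, add_zero]
  let X := LinearMap.range (LinearMap.inl F (Mdl F d) V)
  let Y := LinearMap.range (LinearMap.inr F (Mdl F d) V)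
  have hX : Symp.NondegOn P X := by
    rintro _ ⟨x, rfl⟩ hx
    obtain ⟨y, hy⟩ := hnd x fun h => hx (by rw [h, map_zero])
    exact ⟨_, ⟨y, rfl⟩, by simpa [hP] using hy⟩
  have hY : Symp.NondegOn P Y := by
    rintro _ ⟨x, rfl⟩ hx
    obtain ⟨y, hy⟩ : ∃ y, S x y ≠ 0 := by
      by_contra h
      push Not at h
      exact hx (by rw [(Symp.spB_nondegenerate m F).1 x h, map_zero])
    exact ⟨_, ⟨y, rfl⟩, by simpa [hP] using hy⟩
  have hfr : finrank F (Mdl F d) = finrank F V := by
    rw [Module.finrank_eq_card_basis (gbas (F := F) d), Module.finrank_pi, Fintype.card_congr e]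
  have hdim : finrank F X ≤ finrank F Y := by
    rw [LinearMap.finrank_range_of_inj LinearMap.inl_injective, LinearMap.finrank_range_of_inj LinearMap.inr_injective, hfr]
  obtain ⟨φ, hφY, hφ⟩ := Symp.exists_isometry_between hPA _ X Y le_rfl hX hY hdim
  let ψ : Mdl F d →ₗ[F] V := (LinearMap.snd F _ _).comp (φ.comp (LinearMap.inl F (Mdl F d) V).rangeRestrict)
  have hψB : ∀ x y, S (ψ x) (ψ y) = B x y := fun x y => by
    obtain ⟨a, ha⟩ := hφY ⟨_, x, rfl⟩
    obtain ⟨b, hb⟩ := hφY ⟨_, y, rfl⟩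
    have h := hφ ⟨_, x, rfl⟩ ⟨_, y, rfl⟩
    rw [← ha, ← hb, hP, hP] at h
    simp only [LinearMap.inr_apply, LinearMap.inl_apply, map_zero, zero_add, add_zero] at h
    show S (φ ⟨_, x, rfl⟩).2 (φ ⟨_, y, rfl⟩).2 = _
    rw [← ha, ← hb]
    exact h
  have hinj : Function.Injective ψ := by
    rw [← LinearMap.ker_eq_bot, LinearMap.ker_eq_bot']
    intro x hx
    by_contra h0
    obtain ⟨y, hy⟩ := hnd x h0
    rw [← hψB, hx, map_zero, LinearMap.zero_apply] at hy
    exact hy rfl
  let Ψ : Mdl F d ≃ₗ[F] V := LinearEquiv.ofBijective ψ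
    ⟨hinj, (LinearMap.injective_iff_surjective_of_finrank_eq_finrank hfr).1 hinj⟩
  refine ⟨e, ⟨LinearMap.toMatrix' (Ψ.toLinearMap ∘ₗ UU d ∘ₗ Ψ.symm.toLinearMap), ?_⟩, isConj_of_map d e Ψ⟩
  rw [Symp.mem_symplecticGroup_iff]
  intro u v
  simp only [LinearMap.toMatrix'_mulVec, LinearMap.comp_apply]
  show S (ψ (UU d (Ψ.symm u))) (ψ (UU d (Ψ.symm v))) = S u v
  rw [hψB, hinv, ← hψB]
  show S (Ψ (Ψ.symm u)) (Ψ (Ψ.symm v)) = _
  rw [Ψ.apply_symm_apply, Ψ.apply_symm_apply]

theorem orthogonal_of_form {N : ℕ} (hsum : ∑ k, d k = N) (C : LinearMap.BilinForm F (Mdl F d))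
    (hinv : ∀ x, C (UU d x) (UU d x) = C x x) (hnd : ∀ x, x ≠ 0 → ∃ y, C x y + C y x ≠ 0) :
    ∃ Q : QuadraticForm F (Fin N → F), (QuadraticMap.polarBilin Q).Nondegenerate ∧
      ∃ e : ((k : Fin t) × Fin (d k)) ≃ Fin N, ∃ A : ↥(Cfsg.isometryGroup F ⇑Q),
        IsConj (Matrix.reindex e e (Cfsg.jordanTypeMatrix d F)) ((A : Matrix.GeneralLinearGroup (Fin N) F) : Matrix (Fin N) (Fin N) F) := by
  classical
  let e : ((k : Fin t) × Fin (d k)) ≃ Fin N := Fintype.equivOfCardEq (by simp [hsum])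
  let Ψ : Mdl F d ≃ₗ[F] (Fin N → F) := ((gbas (F := F) d).reindex e).equivFun
  let C' : LinearMap.BilinForm F (Fin N → F) := C.compl₁₂ Ψ.symm.toLinearMap Ψ.symm.toLinearMap
  let Q : QuadraticForm F (Fin N → F) := LinearMap.BilinMap.toQuadraticMap C'
  have hQ : ∀ v, Q v = C (Ψ.symm v) (Ψ.symm v) := fun v => rfl
  have hpol : ∀ u v, QuadraticMap.polarBilin Q u v = C (Ψ.symm u) (Ψ.symm v) + C (Ψ.symm v) (Ψ.symm u) := fun u v => by
    simp only [QuadraticMap.polarBilin_apply_apply, QuadraticMap.polar, hQ, map_add, LinearMap.add_apply]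
    ring
  refine ⟨Q, nondeg_of_left _ (fun u v h => by rw [hpol] at h ⊢; rwa [add_comm]) (fun u hu => ?_), e, ?_⟩
  · obtain ⟨y, hy⟩ := hnd (Ψ.symm u) fun h => hu (by simpa using congrArg Ψ h)
    exact ⟨Ψ y, by rw [hpol, Ψ.symm_apply_apply]; exact hy⟩
  · let f : End F (Fin N → F) := Ψ.toLinearMap ∘ₗ UU d ∘ₗ Ψ.symm.toLinearMap
    have hu : IsUnit (LinearMap.toMatrix' f) := by
      rw [← Matrix.mulVec_injective_iff_isUnit]
      intro x y hxy
      simp only [LinearMap.toMatrix'_mulVec, f, LinearMap.comp_apply, LinearEquiv.coe_coe] at hxy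
      refine Ψ.symm.injective (funext fun k => ?_)
      have := congrFun (Ψ.injective hxy) k
      rw [UU_apply, UU_apply] at this
      calc Ψ.symm x k = vv * (uu * Ψ.symm x k) := by rw [← mul_assoc, vv_mul_uu, one_mul]
        _ = _ := by rw [this, ← mul_assoc, vv_mul_uu, one_mul]
    refine ⟨⟨hu.unit, Cfsg.Lib.Linear.Orth.mem_iso.2 fun v => ?_⟩, isConj_of_map d e Ψ⟩
    rw [show hu.unit.val = LinearMap.toMatrix' f from rfl, LinearMap.toMatrix'_mulVec, hQ, hQ]
    simp only [f, LinearMap.comp_apply, LinearEquiv.coe_coe, LinearEquiv.symm_apply_apply]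
    exact hinv _

end IfPart

end Cfsg.Lib.Linear.JordanForms
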