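import Cfsg.Agent.Lib.Linear.JordanForms.Trunc
import Cfsg.Prelude.Def_JordanBlocks

/-!
# Invariant forms for unipotent elements of a given Jordan type

Blocks fixed by a pairing carry their own form, paired blocks carry a hyperbolic one.
-/

set_option autoImplicit false

namespace Cfsg.Lib.Linear.JordanForms

open Module
open scoped Matrix

variable {F : Type*} [Field F] {t : ℕ} (d : Fin t → ℕ)

/-- The model space. -/
abbrev Mdl (F : Type*) [Field F] {t : ℕ} (d : Fin t → ℕ) : Type _ := (k : Fin t) → A F (d k)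

/-- Multiplication by `uu` in every coordinate. -/
noncomputable def UU : Mdl F d →ₗ[F] Mdl F d :=
  LinearMap.pi fun k => (LinearMap.mulLeft F (uu : A F (d k))).comp (LinearMap.proj k)

theorem UU_apply (x : Mdl F d) (k : Fin t) : UU d x k = uu * x k := rfl

/-- The basis of the model. -/
noncomputable def gbas : Basis ((k : Fin t) × Fin (d k)) F (Mdl F d) := Pi.basis fun _ => bas

theorem bas_repr_gen_pow {n : ℕ} (i : ℕ) (j : Fin n) :
    (bas (F := F)).repr ((gen : A F n) ^ i) j = if i = (j : ℕ) then 1 else 0 := by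
  by_cases hi : i < n
  · rw [show (gen : A F n) ^ i = bas (⟨i, hi⟩ : Fin n) from (bas_apply (F := F) (d := n) ⟨i, hi⟩).symm,
      Basis.repr_self, Finsupp.single_apply]
    simp [Fin.ext_iff]
  · rw [gen_pow_of_le (by omega), map_zero, if_neg (by omega)]
    rfl

theorem toMatrix_UU : LinearMap.toMatrix (gbas d) (gbas d) (UU (F := F) d) = Cfsg.jordanTypeMatrix d F := by
  classical
  ext ⟨k, i⟩ ⟨l, j⟩
  rw [LinearMap.toMatrix_apply, gbas, Pi.basis_repr, Pi.basis_apply, UU_apply, Cfsg.jordanTypeMatrix]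
  rcases eq_or_ne k l with rfl | hkl
  · rw [Matrix.blockDiagonal'_apply_eq]
    simp only [Pi.single_eq_same, Cfsg.jordanBlock, Matrix.of_apply]
    rw [bas_apply, uu, add_mul, one_mul, ← pow_succ', map_add, Finsupp.add_apply, bas_repr_gen_pow, bas_repr_gen_pow]
    by_cases h : (i : ℕ) = j
    · simp [h]
    · simp [h, Ne.symm h, eq_comm]
  · rw [Matrix.blockDiagonal'_apply_ne _ _ _ hkl]
    simp [hkl]

/-- Transport along an equality of sizes. -/
noncomputable def castA {a b : ℕ} (h : a = b) : A F a ≃ₐ[F] A F b := by subst h; exact AlgEquiv.refl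

theorem castA_uu {a b : ℕ} (h : a = b) : castA (F := F) h uu = uu := by subst h; rfl

variable {d} (π : Fin t → Fin t) (hd : ∀ k, d k ≠ 0) (hdπ : ∀ k, d (π k) = d k)

/-- The forms of the fixed blocks. -/
noncomputable def fixedPart (f : (k : Fin t) → LinearMap.BilinForm F (A F (d k))) : LinearMap.BilinForm F (Mdl F d) :=
  ∑ k ∈ Finset.univ.filter (fun k => π k = k), (f k).compl₁₂ (LinearMap.proj k) (LinearMap.proj k)

/-- One half of the hyperbolic forms of the paired blocks. -/
noncomputable def pairPart : LinearMap.BilinForm F (Mdl F d) :=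
  ∑ k ∈ Finset.univ.filter (fun k => k < π k), (frm (top (hd k))).compl₁₂ (LinearMap.proj k)
    ((castA (hdπ k)).toLinearMap.comp (LinearMap.proj (π k)))

theorem fixedPart_apply (f : (k : Fin t) → LinearMap.BilinForm F (A F (d k))) (x y : Mdl F d) :
    fixedPart π f x y = ∑ k ∈ Finset.univ.filter (fun k => π k = k), f k (x k) (y k) := by
  simp [fixedPart, LinearMap.sum_apply]

theorem pairPart_apply (x y : Mdl F d) : pairPart π hd hdπ x y =
    ∑ k ∈ Finset.univ.filter (fun k => k < π k), frm (top (hd k)) (x k) (castA (hdπ k) (y (π k))) := by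
  simp [pairPart, LinearMap.sum_apply]

theorem pairPart_UU (x y : Mdl F d) : pairPart π hd hdπ (UU d x) (UU d y) = pairPart π hd hdπ x y := by
  simp only [pairPart_apply, UU_apply, map_mul, castA_uu, frm_uu]

theorem fixedPart_UU (f : (k : Fin t) → LinearMap.BilinForm F (A F (d k)))
    (hf : ∀ k, π k = k → ∀ a b, f k (uu * a) (uu * b) = f k a b) (x y : Mdl F d) :
    fixedPart π f (UU d x) (UU d y) = fixedPart π f x y := by
  simp only [fixedPart_apply, UU_apply]
  exact Finset.sum_congr rfl fun k hk => hf k (Finset.mem_filter.1 hk).2 _ _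

theorem fixedPart_UU_self (f : (k : Fin t) → LinearMap.BilinForm F (A F (d k)))
    (hf : ∀ k, π k = k → ∀ a, f k (uu * a) (uu * a) = f k a a) (x : Mdl F d) :
    fixedPart π f (UU d x) (UU d x) = fixedPart π f x x := by
  simp only [fixedPart_apply, UU_apply]
  exact Finset.sum_congr rfl fun k hk => hf k (Finset.mem_filter.1 hk).2 _

theorem nondeg (hπ : Function.Involutive π) (f : (k : Fin t) → LinearMap.BilinForm F (A F (d k)))
    (hf : ∀ k, π k = k → ∀ a, a ≠ 0 → ∃ b, f k a b ≠ 0) {ε : F} (hε : ε ≠ 0) {x : Mdl F d} (hx : x ≠ 0) :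
    ∃ y, fixedPart π f x y + pairPart π hd hdπ x y + ε * pairPart π hd hdπ y x ≠ 0 := by
  classical
  obtain ⟨k, hk⟩ := Function.ne_iff.1 hx
  rcases lt_trichotomy k (π k) with h | h | h
  · obtain ⟨b, hb⟩ := frm_nondeg (top (hd k)) (by rw [top_gen_pow]; exact one_ne_zero) hk
    refine ⟨Pi.single (π k) ((castA (hdπ k)).symm b), ?_⟩
    rw [fixedPart_apply, pairPart_apply, pairPart_apply, Finset.sum_eq_zero fun l hl => ?_,
      Finset.sum_eq_single k (fun l hl hlk => ?_) (fun h' => ?_), Finset.sum_eq_zero fun l hl => ?_]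
    · simpa using hb
    · have hl' := (Finset.mem_filter.1 hl).2
      rw [Pi.single_eq_of_ne (fun e : l = π k => by subst e; rw [hπ k] at hl'; exact hl'.not_gt h), map_zero,
        LinearMap.zero_apply]
    · rw [Pi.single_eq_of_ne (fun e : π l = π k => hlk (hπ.injective e)), map_zero, map_zero]
    · simp [h] at h'
    · have hl' := (Finset.mem_filter.1 hl).2
      rw [Pi.single_eq_of_ne (fun e : l = π k => by subst e; rw [hπ k] at hl'; exact h.ne hl'), map_zero]
  · obtain ⟨b, hb⟩ := hf k h.symm _ hk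
    refine ⟨Pi.single k b, ?_⟩
    rw [fixedPart_apply, pairPart_apply, pairPart_apply, Finset.sum_eq_single k (fun l hl hlk => ?_) (fun h' => ?_),
      Finset.sum_eq_zero fun l hl => ?_, Finset.sum_eq_zero fun l hl => ?_]
    · simpa using hb
    · have hl' := (Finset.mem_filter.1 hl).2
      rw [Pi.single_eq_of_ne (fun e : l = k => by subst e; exact hl'.ne h), map_zero, LinearMap.zero_apply]
    · have hl' := (Finset.mem_filter.1 hl).2
      rw [Pi.single_eq_of_ne (fun e : π l = k => hl'.ne (hπ.injective (by rw [e]; exact h))), map_zero, map_zero]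
    · rw [Pi.single_eq_of_ne hlk, map_zero]
    · simp [h.symm] at h'
  · have hkl : π (π k) = k := hπ k
    have hc : castA (hdπ (π k)) (x (π (π k))) ≠ 0 := by
      rw [map_ne_zero_iff _ (castA (hdπ (π k))).injective, hkl]
      exact hk
    have hc' : st (castA (hdπ (π k)) (x (π (π k)))) ≠ 0 := fun h0 => hc (by rw [← st_st (castA _ _), h0, map_zero])
    obtain ⟨b, hb⟩ := exists_mul_eq_socle hc'
    refine ⟨Pi.single (π k) b, ?_⟩
    rw [fixedPart_apply, pairPart_apply, pairPart_apply, Finset.sum_eq_zero fun l hl => ?_,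
      Finset.sum_eq_zero fun l hl => ?_, Finset.sum_eq_single (π k) (fun l hl hlk => ?_) (fun h' => ?_)]
    · rw [Pi.single_eq_same, frm_apply, mul_comm b, hb, top_gen_pow]
      simpa using hε
    · rw [Pi.single_eq_of_ne hlk, map_zero, LinearMap.zero_apply]
    · exact absurd (Finset.mem_filter.2 ⟨Finset.mem_univ _, by rw [hkl]; exact h⟩) h'
    · have hl' := (Finset.mem_filter.1 hl).2
      rw [Pi.single_eq_of_ne (fun e : π l = π k => by rw [hπ.injective e] at hl'; exact hl'.not_gt h), map_zero, map_zero]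
    · have hl' := (Finset.mem_filter.1 hl).2
      rw [Pi.single_eq_of_ne (fun e : l = π k => by subst e; rw [hπ k] at hl'; exact h.ne hl'.symm), map_zero]

omit hd hdπ in
/-- A pairing of the blocks of bad size. -/
theorem exists_pairing (bad : ℕ → Prop) (hbad : ∀ j, bad j → Even (Finset.univ.filter (fun k : Fin t => d k = j)).card) :
    ∃ π : Fin t → Fin t, Function.Involutive π ∧ (∀ k, d (π k) = d k) ∧ ∀ k, π k = k → ¬ bad (d k) := by
  classical
  let sw : (n : ℕ) → Fin n → Fin n := fun n i =>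
    if h : (i : ℕ) % 2 = 0 then (if h' : (i : ℕ) + 1 < n then ⟨(i : ℕ) + 1, h'⟩ else i)
    else ⟨(i : ℕ) - 1, lt_of_le_of_lt (Nat.sub_le _ _) i.2⟩
  have hsw : ∀ n, Even n → ∀ i, sw n (sw n i) = i ∧ sw n i ≠ i := fun n hn i => by
    obtain ⟨r, rfl⟩ := hn
    have := i.2
    have hv : ∀ j : Fin (r + r), (sw (r + r) j : ℕ) = if (j : ℕ) % 2 = 0 then (j : ℕ) + 1 else (j : ℕ) - 1 := fun j => by
      have := j.2
      simp only [sw]
      split_ifs with h h' <;> first | rfl | omega
    constructor
    · refine Fin.ext ?_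
      rw [hv, hv]
      split_ifs <;> omega
    · intro he
      have := congrArg Fin.val he
      rw [hv] at this
      split_ifs at this <;> omega
  let e : (j : ℕ) → {k : Fin t // d k = j} ≃ Fin (Fintype.card {k : Fin t // d k = j}) := fun j => Fintype.equivFin _
  let p : (j : ℕ) → {k : Fin t // d k = j} → {k : Fin t // d k = j} := fun j k =>
    if bad j then (e j).symm (sw _ (e j k)) else k
  have hev : ∀ j, bad j → Even (Fintype.card {k : Fin t // d k = j}) := fun j hj => by
    rw [Fintype.card_subtype]; exact hbad j hj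
  have hp : ∀ j k, p j (p j k) = k := fun j k => by
    by_cases hj : bad j
    · simp only [p, if_pos hj, Equiv.apply_symm_apply, (hsw _ (hev j hj) _).1, Equiv.symm_apply_apply]
    · simp only [p, if_neg hj]
  refine ⟨fun k => (p (d k) ⟨k, rfl⟩).1, fun k => ?_, fun k => (p (d k) ⟨k, rfl⟩).2, fun k hk hj => ?_⟩
  · have key : ∀ (j : ℕ) (x : {k : Fin t // d k = j}), (p (d x.1) ⟨x.1, rfl⟩).1 = (p j x).1 := fun j x => by
      obtain ⟨x, rfl⟩ := x; rfl
    show (p (d (p (d k) ⟨k, rfl⟩).1) ⟨(p (d k) ⟨k, rfl⟩).1, rfl⟩).1 = k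
    rw [key, hp]
  · have h1 : p (d k) ⟨k, rfl⟩ = ⟨k, rfl⟩ := Subtype.ext hk
    simp only [p, if_pos hj, Equiv.symm_apply_eq] at h1
    exact (hsw _ (hev _ hj) _).2 h1

end Cfsg.Lib.Linear.JordanForms
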