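import Cfsg.Agent.S2583
import Cfsg.Agent.Lib.Linear.OrthStdBasis
import Cfsg.Agent.Lib.Linear.FrameNotMax
import Cfsg.Agent.Lib.Linear.IsotropicFix.OrthReduce
import Cfsg.Agent.Lib.Linear.OrthSplitMax

/-!
# Invariant non-degenerate subspaces of unipotent orthogonal elements

The Jordan type of an orthogonal unipotent element on an invariant non-degenerate subspace is a
sub-multiset in which every even size occurs an even number of times; and every admissible type with
an odd size is realised in every orthogonal group.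
-/

set_option autoImplicit false

universe u

namespace Cfsg.Lib.Linear.JordanForms

open Module
open scoped Matrix

section Mult

variable {F V : Type*} [Field F] [AddCommGroup V] [Module F V] [FiniteDimensional F V]

/-- The number of blocks of size `j`. -/
noncomputable def mu (N : End F V) (j : ℕ) : ℕ := 2 * kd N j - (kd N (j - 1) + kd N (j + 1))

theorem kd_zero (N : End F V) : kd N 0 = 0 := by
  rw [kd, pow_zero, show LinearMap.ker (1 : End F V) = ⊥ from LinearMap.ker_id, finrank_bot]

theorem kd_le (N : End F V) (i : ℕ) : kd N i ≤ finrank F V := Submodule.finrank_le _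

theorem kd_mono (N : End F V) {a b : ℕ} (h : a ≤ b) : kd N a ≤ kd N b := by
  refine Submodule.finrank_mono fun x hx => ?_
  show (N ^ b) x = 0
  obtain ⟨c, rfl⟩ := Nat.exists_eq_add_of_le h
  rw [add_comm, pow_add, End.mul_apply, show (N ^ a) x = 0 from hx, map_zero]

theorem kd_eq_of_pow_eq_zero (N : End F V) {i : ℕ} (h : N ^ i = 0) : kd N i = finrank F V := by
  rw [kd, h, LinearMap.ker_zero, finrank_top]

theorem pow_eq_zero_of_kd (N : End F V) {i : ℕ} (h : kd N i = finrank F V) : N ^ i = 0 :=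
  LinearMap.ker_eq_top.1 (Submodule.eq_top_of_finrank_eq h)

theorem kd_concave (N : End F V) {j : ℕ} (hj : 1 ≤ j) : kd N (j - 1) + kd N (j + 1) ≤ 2 * kd N j := by
  have key : ∀ i, finrank F ((LinearMap.ker (N ^ (i + 1))).map (N ^ i)) + kd N i = kd N (i + 1) := fun i => by
    have h := LinearMap.finrank_range_add_finrank_ker ((N ^ i).domRestrict (LinearMap.ker (N ^ (i + 1))))
    rw [LinearMap.range_domRestrict] at h
    rw [show finrank F (LinearMap.ker ((N ^ i).domRestrict (LinearMap.ker (N ^ (i + 1))))) = kd N i from ?_] at h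
    · exact h
    · rw [LinearMap.ker_domRestrict, kd]
      refine (Submodule.comapSubtypeEquivOfLe (fun x hx => ?_)).finrank_eq
      show (N ^ (i + 1)) x = 0
      rw [pow_succ', End.mul_apply, show (N ^ i) x = 0 from hx, map_zero]
  obtain ⟨i, rfl⟩ : ∃ i, j = i + 1 := ⟨j - 1, by omega⟩
  have hle : (LinearMap.ker (N ^ (i + 1 + 1))).map (N ^ (i + 1)) ≤ (LinearMap.ker (N ^ (i + 1))).map (N ^ i) := by
    rintro _ ⟨x, hx, rfl⟩
    refine ⟨N x, ?_, ?_⟩
    · show (N ^ (i + 1)) (N x) = 0
      rw [← End.mul_apply, ← pow_succ]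
      exact hx
    · rw [← End.mul_apply, ← pow_succ]
  have h1 := Submodule.finrank_mono hle
  have h2 := key i
  have h3 := key (i + 1)
  rw [Nat.add_sub_cancel]
  omega

theorem sum_mu (N : End F V) (D : ℕ) :
    ∑ j ∈ Finset.range (D + 1), j * mu N j + D * kd N (D + 1) = (D + 1) * kd N D := by
  induction D with
  | zero => simp [kd_zero]
  | succ D ih =>
    have hc := kd_concave N (show 1 ≤ D + 1 by omega)
    rw [Nat.add_sub_cancel] at hc
    have e : mu N (D + 1) + (kd N D + kd N (D + 1 + 1)) = 2 * kd N (D + 1) := by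
      rw [mu, Nat.add_sub_cancel]; omega
    rw [Finset.sum_range_succ]
    calc ∑ j ∈ Finset.range (D + 1), j * mu N j + (D + 1) * mu N (D + 1) + (D + 1) * kd N (D + 1 + 1)
        = ∑ j ∈ Finset.range (D + 1), j * mu N j + (D + 1) * (mu N (D + 1) + kd N (D + 1 + 1)) := by ring
      _ = _ := by
        have e' : (D + 1) * (mu N (D + 1) + (kd N D + kd N (D + 1 + 1))) = (D + 1) * (2 * kd N (D + 1)) := by rw [e]
        simp only [mul_add, add_mul, one_mul] at e' ih ⊢
        linarith

theorem sum_mu_of_pow (N : End F V) {p : ℕ} (hp : N ^ p = 0) :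
    ∑ j ∈ Finset.range (p + 1), j * mu N j = finrank F V := by
  have h := sum_mu N p
  rw [kd_eq_of_pow_eq_zero N hp, kd_eq_of_pow_eq_zero N (pow_eq_zero_of_le (Nat.le_succ p) hp)] at h
  rw [add_one_mul] at h
  omega

theorem pow_eq_zero_of_sum (N : End F V) {p : ℕ}
    (h : ∑ j ∈ Finset.range (p + 1), j * mu N j = finrank F V) : N ^ p = 0 := by
  refine pow_eq_zero_of_kd N (le_antisymm (kd_le N p) ?_)
  have h1 := sum_mu N p
  have h2 := kd_mono N (Nat.le_succ p)
  have h3 : p * kd N p ≤ p * kd N (p + 1) := Nat.mul_le_mul_left p h2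
  rw [h, add_one_mul] at h1
  omega

omit [FiniteDimensional F V] in
theorem kd_conj {V' : Type*} [AddCommGroup V'] [Module F V'] (e : V ≃ₗ[F] V') (N : End F V) (N' : End F V')
    (h : ∀ v, N' (e v) = e (N v)) (i : ℕ) : kd N' i = kd N i := by
  have hi : ∀ v, (N' ^ i) (e v) = e ((N ^ i) v) := by
    induction i with
    | zero => simp
    | succ i ih => intro v; rw [pow_succ', pow_succ', End.mul_apply, End.mul_apply, ih, h]
  rw [kd, kd, show LinearMap.ker (N' ^ i) = (LinearMap.ker (N ^ i)).map (e : V →ₗ[F] V') from ?_]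
  · exact LinearEquiv.finrank_map_eq e _
  · ext y
    obtain ⟨v, rfl⟩ := e.surjective y
    simp [LinearMap.mem_ker, hi]

theorem kd_add (N : End F V) {W U : Submodule F V} (hc : IsCompl W U) (hW : ∀ x ∈ W, N x ∈ W) (hU : ∀ x ∈ U, N x ∈ U)
    (i : ℕ) : kd N i = kd (N.restrict hW) i + kd (N.restrict hU) i := by
  have hk : ∀ (P : Submodule F V) (hP : ∀ x ∈ P, N x ∈ P), (∀ k, ∀ x ∈ P, (N ^ k) x ∈ P) ∧
      kd (N.restrict hP) i = finrank F ↥(LinearMap.ker (N ^ i) ⊓ P) := by
    intro P hP
    have hmem : ∀ k, ∀ x ∈ P, (N ^ k) x ∈ P := by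
      intro k
      induction k with
      | zero => intro x hx; simpa using hx
      | succ k ih => intro x hx; rw [pow_succ', End.mul_apply]; exact hP _ (ih x hx)
    have hpow : ∀ (k : ℕ) (x : P), ((((N.restrict hP) ^ k) x : P) : V) = (N ^ k) x := by
      intro k
      induction k with
      | zero => intro x; simp
      | succ k ih =>
        intro x
        rw [pow_succ', pow_succ', End.mul_apply, End.mul_apply, ← ih]
        rfl
    refine ⟨hmem, ?_⟩
    rw [kd, show LinearMap.ker ((N.restrict hP) ^ i) = (LinearMap.ker (N ^ i) ⊓ P).comap P.subtype from ?_]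
    · exact (Submodule.comapSubtypeEquivOfLe inf_le_right).finrank_eq
    · ext x
      simp only [LinearMap.mem_ker, Submodule.mem_comap, Submodule.mem_inf, Submodule.coe_subtype, SetLike.coe_mem, and_true]
      exact ⟨fun h => by rw [← hpow, h]; rfl, fun h => Subtype.ext ((hpow i x).trans h)⟩
  obtain ⟨mW, eW⟩ := hk W hW
  obtain ⟨mU, eU⟩ := hk U hU
  rw [eW, eU]
  set K := LinearMap.ker (N ^ i) with hK
  have hsup : (K ⊓ W) ⊔ (K ⊓ U) = K := by
    refine le_antisymm (sup_le inf_le_left inf_le_left) fun x hx => ?_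
    obtain ⟨w, hw, u, hu, rfl⟩ := Submodule.mem_sup.1 (hc.sup_eq_top ▸ Submodule.mem_top : x ∈ W ⊔ U)
    have h0 : (N ^ i) w + (N ^ i) u = 0 := by rw [← map_add]; exact hx
    have hw0 : (N ^ i) w = 0 := Submodule.disjoint_def.1 hc.disjoint _ (mW i w hw)
      (by rw [eq_neg_of_add_eq_zero_left h0]; exact U.neg_mem (mU i u hu))
    rw [hw0, zero_add] at h0
    exact Submodule.add_mem_sup ⟨hw0, hw⟩ ⟨h0, hu⟩
  have h1 := Submodule.finrank_sup_add_finrank_inf_eq (K ⊓ W) (K ⊓ U)
  rw [hsup, show (K ⊓ W) ⊓ (K ⊓ U) = ⊥ from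
    eq_bot_iff.2 ((inf_le_inf inf_le_right inf_le_right).trans hc.inf_eq_bot.le), finrank_bot, add_zero] at h1
  exact h1

theorem mu_add (N : End F V) {W U : Submodule F V} (hc : IsCompl W U) (hW : ∀ x ∈ W, N x ∈ W) (hU : ∀ x ∈ U, N x ∈ U)
    {j : ℕ} (hj : 1 ≤ j) : mu N j = mu (N.restrict hW) j + mu (N.restrict hU) j := by
  have h1 := kd_concave (N.restrict hW) hj
  have h2 := kd_concave (N.restrict hU) hj
  simp only [mu, kd_add N hc hW hU]
  omega

/-- Symmetric isometric unipotents: blocks of even size come in pairs. -/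
theorem parity_symm (B : LinearMap.BilinForm F V) (hB : B.Nondegenerate) (h2 : (2 : F) ≠ 0)
    (hS : ∀ x y, B x y = B y x) (u : (End F V)ˣ) (hu : ∀ x y, B (u.val x) (u.val y) = B x y)
    (hnil : IsNilpotent (u.val - 1)) {j : ℕ} (hj : Even j) (hj0 : 0 < j) : Even (mu (u.val - 1) j) := by
  set a := u.val with ha
  set b := (u⁻¹ : (End F V)ˣ).val with hb
  set z := 2 - a - b with hzdef
  have hba : b * a = 1 := Units.inv_mul u
  have hab : ∀ x, a (b x) = x := fun x => by rw [← End.mul_apply, show a * b = 1 from Units.mul_inv u, End.one_apply]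
  have h3 : ∀ x y, B x (b y) = B (a x) y := fun x y => by conv_rhs => rw [← hab y, hu]
  have h4 : ∀ x y, B (b x) y = B x (a y) := fun x y => by conv_rhs => rw [← hab x, hu]
  have hz : z = -b * (a - 1) ^ 2 := unit_sq_identity hba
  have hzs : ∀ x y, B (z x) y = B x (z y) := fun x y => by
    simp only [hzdef, show (2 : End F V) = 1 + 1 from one_add_one_eq_two.symm, LinearMap.sub_apply, LinearMap.add_apply,
      End.one_apply, map_sub, map_add]
    rw [h3, h4]
    ring
  obtain ⟨i, rfl⟩ : ∃ i, j = 2 * i + 2 := ⟨j / 2 - 1, by rw [Nat.even_iff] at hj; omega⟩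
  have hcb : Commute b (a - 1) := ((Commute.refl a).units_inv_left).sub_right (Commute.one_right _)
  have hw : IsUnit (1 + b) := by
    have e1 : a * (1 + b) = (2 : F) • (1 : End F V) + (a - 1) := by
      rw [mul_add, mul_one, hb, ha, Units.mul_inv, two_smul]; abel
    have h1 : IsUnit ((2 : F) • (1 : End F V) + (a - 1)) :=
      IsNilpotent.isUnit_add_left_of_commute hnil (by
        rw [← Algebra.algebraMap_eq_smul_one]; exact (Ne.isUnit h2).map _) ((Commute.one_right _).smul_right _)
    rw [← e1] at h1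
    have h2' := (u⁻¹).isUnit.mul h1
    rwa [← mul_assoc, ha, Units.inv_mul, one_mul] at h2'
  set g : (End F V)ˣ := hw.unit * (-u⁻¹) ^ i with hg
  have hgv : g.val = (1 + b) * (-b) ^ i := by
    rw [hg, Units.val_mul, Units.val_pow_eq_pow_val, Units.val_neg]; rfl
  have hc1 : Commute (1 + b) (a - 1) := (Commute.one_left _).add_left hcb
  have hcomm : Commute g.val (a - 1) := by rw [hgv]; exact hc1.mul_left (hcb.neg_left.pow_left i)
  have hf : g.val * (a - 1) ^ (2 * i + 1) = (a - b) * z ^ i := by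
    rw [hgv, hz, (hcb.neg_left.pow_right 2).mul_pow, ← pow_mul, pow_succ', ← mul_assoc, mul_assoc (1 + b),
      (hcb.neg_left.pow_left i).eq, ← mul_assoc (1 + b), show (1 + b) * (a - 1) = a - b by
        rw [add_mul, one_mul, mul_sub, mul_one, hba]; abel]
    rw [mul_assoc]
  refine (parity B u hB (fun x y hxy => by rw [hS]; exact hxy) hu (j := 2 * i + 2) (by omega) g hcomm
    (fun x _ => ?_)).2
  rw [show 2 * i + 2 - 1 = 2 * i + 1 by omega, hf]
  have hzi : ∀ i x y, B ((z ^ i) x) y = B x ((z ^ i) y) := by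
    intro i
    induction i with
    | zero => intro x y; simp
    | succ i ih => intro x y; rw [pow_succ, End.mul_apply, ih, hzs, ← End.mul_apply z, ← pow_succ', pow_succ]
  have hsk : ∀ x y, B x ((a - b) y) = -B ((a - b) x) y := fun x y => by
    have h5 : B x (a y) = B (b x) y := (h4 x y).symm
    simp only [LinearMap.sub_apply, map_sub, h3, h5]
    ring
  have hcz : Commute (a - b) (z ^ i) := by
    refine Commute.pow_right ?_ i
    have hub : Commute a b := (Commute.refl a).units_inv_right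
    have h21 : ∀ c : End F V, Commute c 2 := fun c => Commute.ofNat_right c 2
    exact ((((h21 _).sub_right (Commute.refl _)).sub_right hub).sub_left
      (((h21 _).sub_right hub.symm).sub_right (Commute.refl _)))
  have h6 : B x (((a - b) * z ^ i) x) = -B x (((a - b) * z ^ i) x) := by
    conv_lhs => rw [End.mul_apply, hsk, ← hzi, hS]
    conv_lhs => rw [← End.mul_apply, ← hcz.eq]
  exact (mul_eq_zero.1 (by rw [two_mul]; exact eq_neg_iff_add_eq_zero.1 h6)).resolve_left h2

end Mult

section Space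

open Cfsg.Lib.Linear.Orth

variable {F : Type u} [Field F] {ι : Type} [Fintype ι] [DecidableEq ι] {Q : (ι → F) → F}
  {B : LinearMap.BilinForm F (ι → F)}

/-- The type on an invariant non-degenerate subspace. -/
theorem sub_type (C : Space Q B) (h2 : (2 : F) ≠ 0) (g : End F (ι → F)) (hg : ∀ v, Q (g v) = Q v) {p : ℕ}
    (hgp : (g - 1) ^ p = 0) {μ : Multiset ℕ} (hpos : ∀ a ∈ μ, 0 < a ∧ a ≤ p)
    (hmu : ∀ j, 1 ≤ j → mu (g - 1) j = μ.count j) {W : Submodule F (ι → F)} (hW : NDeg B W)
    (hinv : ∀ x ∈ W, g x ∈ W) :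
    ∃ ν : Multiset ℕ, ν ≤ μ ∧ ν.sum = finrank F W ∧ (∀ e, Even e → Even (ν.count e)) ∧
      ((∀ e ∈ ν, e = 2) → Cfsg.Geo.IsPlusTypeOn Q W) := by
  classical
  have hgu : IsUnit g := by
    have h := IsNilpotent.isUnit_one_add (⟨p, hgp⟩ : IsNilpotent (g - 1))
    rwa [add_sub_cancel] at h
  have hiso : ∀ x y, B (g x) (g y) = B x y := fun x y => by
    rw [← C.polar, ← C.polar, QuadraticMap.polar, QuadraticMap.polar, ← map_add, hg, hg, hg]
  set N := g - 1 with hN
  have S : Split Q B (perpIn B ⊤ W) W := split_of_ndeg C hW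
  set U := perpIn B ⊤ W
  have hNW : ∀ x ∈ W, N x ∈ W := fun x hx => W.sub_mem (hinv x hx) hx
  have ginj : Function.Injective g := ((Module.End.isUnit_iff _).1 hgu).1
  have hsurj : ∀ w ∈ W, ∃ y ∈ W, g y = w := by
    intro w hw
    have hT : Function.Injective (g.restrict hinv) := fun x y h => Subtype.ext (ginj (congrArg Subtype.val h))
    obtain ⟨y, hy⟩ := (LinearMap.injective_iff_surjective.1 hT) ⟨w, hw⟩
    exact ⟨y, y.2, congrArg Subtype.val hy⟩
  have hNU : ∀ x ∈ U, N x ∈ U := fun x hx => U.sub_mem ((S.mem_U_iff C).2 fun w hw => by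
    obtain ⟨y, hy, rfl⟩ := hsurj w hw
    rw [hiso]
    exact (S.mem_U_iff C).1 hx y hy) hx
  have hc : IsCompl W U := ⟨Submodule.disjoint_def.2 fun x hx hxU => S.disj C hxU hx,
    codisjoint_iff.2 (by rw [sup_comm]; exact S.sup)⟩
  set NW := N.restrict hNW with hNWdef
  have hle : ∀ j, 1 ≤ j → mu NW j ≤ μ.count j := fun j hj => by
    rw [← hmu j hj, mu_add N hc hNW hNU hj]; exact Nat.le_add_right _ _
  have hNWp : NW ^ p = 0 := by
    rw [hNWdef, Module.End.pow_restrict]
    refine LinearMap.ext fun x => Subtype.ext ?_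
    show (N ^ p) (x : ι → F) = 0
    rw [hgp, LinearMap.zero_apply]
  let ν : Multiset ℕ := ∑ j ∈ Finset.Icc 1 p, Multiset.replicate (mu NW j) j
  have hcount : ∀ e, ν.count e = if e ∈ Finset.Icc 1 p then mu NW e else 0 := fun e => by
    simp only [ν, Multiset.count_sum', Multiset.count_replicate]
    rw [Finset.sum_ite_eq']
  have hzero : ∀ j, 1 ≤ j → p < j → mu NW j = 0 := fun j hj hpj => by
    have h := hle j hj
    rw [Multiset.count_eq_zero.2 fun hm => by have := (hpos j hm).2; omega] at h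
    omega
  have hcount' : ∀ e, 1 ≤ e → ν.count e = mu NW e := fun e he => by
    rw [hcount]
    split_ifs with h
    · rfl
    · rw [Finset.mem_Icc] at h; exact (hzero e he (by omega)).symm
  have hcount0 : ν.count 0 = 0 := by rw [hcount, if_neg (by simp)]
  -- parity
  let uW : (End F W)ˣ := (show IsUnit (g.restrict hinv) from (Module.End.isUnit_iff _).2
    ⟨fun x y h => Subtype.ext (ginj (congrArg Subtype.val h)), fun w => by
      obtain ⟨y, hy, hyw⟩ := hsurj w w.2
      exact ⟨⟨y, hy⟩, Subtype.ext hyw⟩⟩).unit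
  have huW : uW.val - 1 = NW := LinearMap.ext fun x => Subtype.ext rfl
  let BW : LinearMap.BilinForm F W := B.compl₁₂ W.subtype W.subtype
  have hBW : BW.Nondegenerate := ⟨fun x hx => Subtype.ext (hW x x.2 fun y hy => hx ⟨y, hy⟩),
    fun x hx => Subtype.ext (hW x x.2 fun y hy => by rw [C.symm]; exact hx ⟨y, hy⟩)⟩
  have hpar : ∀ e, Even e → 0 < e → Even (mu NW e) := fun e he he0 => by
    rw [← huW]
    exact parity_symm BW hBW h2 (fun x y => C.symm _ _) uW (fun x y => hiso x y) ⟨p, by rw [huW]; exact hNWp⟩ he he0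
  refine ⟨ν, Multiset.le_iff_count.2 fun e => ?_, ?_, fun e he => ?_, fun hall => ?_⟩
  · rcases Nat.eq_zero_or_pos e with rfl | he
    · rw [hcount0]; exact Nat.zero_le _
    · rw [hcount' e he]; exact hle e he
  · have h := sum_mu_of_pow NW hNWp
    rw [← h]
    show Multiset.sumAddMonoidHom (∑ j ∈ Finset.Icc 1 p, Multiset.replicate (mu NW j) j) = _
    rw [map_sum, Finset.range_eq_Ico, ← Finset.Ico_add_one_right_eq_Icc,
      Finset.sum_eq_sum_Ico_succ_bot (show 0 < p + 1 by omega)]
    simp [mul_comm]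
  · rcases Nat.eq_zero_or_pos e with rfl | he0
    · rw [hcount0]; exact Even.zero
    · rw [hcount' e he0]; exact hpar e he he0
  · -- only blocks of size two
    have hj : ∀ j, 1 ≤ j → j ≠ 2 → mu NW j = 0 := fun j hj1 hj2 => by
      rw [← hcount' j hj1, Multiset.count_eq_zero]
      exact fun hm => hj2 (hall j hm)
    have h := sum_mu_of_pow NW hNWp
    have hsum : ∑ j ∈ Finset.range (p + 1), j * mu NW j = 2 * mu NW 2 := by
      rw [Finset.sum_eq_single 2 (fun j _ hj2 => ?_) (fun h2p => ?_)]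
      · rcases Nat.eq_zero_or_pos j with rfl | hj1
        · rw [zero_mul]
        · rw [hj j hj1 hj2, mul_zero]
      · rw [Finset.mem_range] at h2p
        rw [hzero 2 one_le_two (by omega), mul_zero]
    have c1 := kd_concave NW (le_refl 1)
    have c2 := kd_concave NW (show 1 ≤ 2 by norm_num)
    have e1 := hj 1 le_rfl (by norm_num)
    have hk2 := kd_mono NW (show 2 ≤ 3 by norm_num)
    have hk3 := kd_le NW 3
    have hk0 := kd_zero NW
    rw [hsum] at h
    simp only [mu, Nat.sub_self, show 2 - 1 = 1 from rfl, show 1 + 1 = 2 from rfl, show 2 + 1 = 3 from rfl] at e1 h c1 c2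
    have hN2 : NW ^ 2 = 0 := pow_eq_zero_of_kd NW (by omega)
    have hk1 : 2 * kd NW 1 = finrank F W := by omega
    refine ⟨(LinearMap.range NW).map W.subtype, Submodule.map_subtype_le _ _, ?_, ?_⟩
    · rintro _ ⟨_, ⟨x, rfl⟩, rfl⟩
      have h0 : N (N (x : ι → F)) = 0 := by
        have := congrArg Subtype.val (LinearMap.congr_fun hN2 x)
        rw [pow_two, End.mul_apply] at this
        exact this
      have h1 : g (N (x : ι → F)) = N (x : ι → F) := by
        have : g (N (x : ι → F)) - N (x : ι → F) = 0 := h0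
        exact sub_eq_zero.1 this
      have h3 := hiso (x : ι → F) (N (x : ι → F))
      rw [h1, show g (x : ι → F) = (x : ι → F) + N (x : ι → F) from (add_sub_cancel _ _).symm, map_add,
        LinearMap.add_apply, add_eq_left, C.self] at h3
      exact (mul_eq_zero.1 h3).resolve_left h2
    · rw [(Submodule.equivMapOfInjective W.subtype W.injective_subtype _).finrank_eq.symm]
      have h4 := LinearMap.finrank_range_add_finrank_ker NW
      rw [kd, pow_one] at hk1
      omega

variable [Fintype F]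

omit [DecidableEq ι] [Fintype ι] in
/-- Non-degenerate forms of the same odd dimension are similar. -/
theorem exists_similar_odd {V V' : Type*} [AddCommGroup V] [Module F V] [FiniteDimensional F V] [AddCommGroup V']
    [Module F V'] [FiniteDimensional F V'] {m : ℕ} (hV : finrank F V = 2 * m + 1) (hV' : finrank F V' = 2 * m + 1)
    (R : QuadraticForm F V) (hR : (QuadraticMap.polarBilin R).Nondegenerate)
    (R' : QuadraticForm F V') (hR' : (QuadraticMap.polarBilin R').Nondegenerate) :
    ∃ (T : V ≃ₗ[F] V') (c : F), c ≠ 0 ∧ ∀ v, R' (T v) = c * R v := by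
  classical
  obtain ⟨b, b0, bo, bs, bp, bz⟩ := std_basis_odd hV R hR
  obtain ⟨b', b0', bo', bs', bp', bz'⟩ := std_basis_odd hV' R' hR'
  set c := R' (b' (Sum.inl ())) / R (b (Sum.inl ())) with hc
  have hc0 : c ≠ 0 := div_ne_zero b0' b0
  let w : Unit ⊕ (Fin m ⊕ Fin m) → Fˣ := Sum.elim 1 (Sum.elim (fun _ => Units.mk0 c hc0) 1)
  let T := b.equiv (b'.unitsSMul w) (Equiv.refl _)
  have hT : ∀ k, T (b k) = (w k : F) • b' k := fun k => by
    rw [Module.Basis.equiv_apply, Equiv.refl_apply, Module.Basis.unitsSMul_apply, Units.smul_def]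
  refine ⟨T, c, hc0, fun v => ?_⟩
  have hpol : ∀ k l, QuadraticMap.polar ⇑R' (T (b k)) (T (b l)) = c * QuadraticMap.polar ⇑R (b k) (b l) := fun k l => by
    rw [hT, hT, QuadraticMap.polar_smul_left, QuadraticMap.polar_smul_right]
    rcases k with ⟨⟨⟩⟩ | k | k <;> rcases l with ⟨⟨⟩⟩ | l | l <;>
      simp [w, bp, bp', bz, bz', bo, bo', QuadraticMap.polar_comm R (b (Sum.inr _)) (b (Sum.inl ())),
        QuadraticMap.polar_comm R' (b' (Sum.inr _)) (b' (Sum.inl ())),
        QuadraticMap.polar_comm R (b (Sum.inr (Sum.inr _))) (b (Sum.inr (Sum.inl _))),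
        QuadraticMap.polar_comm R' (b' (Sum.inr (Sum.inr _))) (b' (Sum.inr (Sum.inl _))),
        QuadraticMap.polar_self, eq_comm]
    rw [hc]
    field_simp
  have hB : (QuadraticMap.polarBilin R').compl₁₂ T.toLinearMap T.toLinearMap = c • QuadraticMap.polarBilin R :=
    LinearMap.ext_basis b b fun k l => hpol k l
  have hBp : ∀ u v, QuadraticMap.polar ⇑R' (T u) (T v) = c * QuadraticMap.polar ⇑R u v := fun u v =>
    LinearMap.congr_fun (LinearMap.congr_fun hB u) v
  have hb : ∀ k, R' (T (b k)) = c * R (b k) := fun k => by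
    rw [hT, QuadraticMap.map_smul, smul_eq_mul]
    rcases k with ⟨⟨⟩⟩ | k | k
    · simp only [w, Sum.elim_inl, Pi.one_apply, Units.val_one, mul_one, one_mul, hc]
      field_simp
    · rw [(bs' k).1, (bs k).1, mul_zero, mul_zero]
    · rw [(bs' k).2, (bs k).2, mul_zero, mul_zero]
  have hv : v ∈ Submodule.span F (Set.range b) := b.span_eq ▸ Submodule.mem_top
  induction hv using Submodule.span_induction with
  | mem v hv => obtain ⟨k, rfl⟩ := hv; exact hb k
  | zero => simp
  | add u v _ _ hu hv =>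
    have := hBp u v
    simp only [QuadraticMap.polar, ← map_add] at this
    linear_combination this + hu + hv
  | smul r u _ hu => rw [map_smul, QuadraticMap.map_smul, QuadraticMap.map_smul, hu, smul_eq_mul, smul_eq_mul]; ring

/-- An element of given type on an odd-dimensional non-degenerate subspace. -/
theorem exists_on (C : Space Q B) (h2 : (2 : F) ≠ 0) {W : Submodule F (ι → F)} (hW : NDeg B W)
    (hodd : Odd (finrank F W)) {μ : Multiset ℕ} (hpos : ∀ a ∈ μ, 0 < a)
    (hev : ∀ e, Even e → Even (μ.count e)) (hsum : μ.sum = finrank F W) :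
    ∃ g : End F W, (∀ w : W, Q (g w : ι → F) = Q (w : ι → F)) ∧ ∀ j, 1 ≤ j → mu (g - 1) j = μ.count j := by
  classical
  set l := μ.toList
  let d : Fin l.length → ℕ := fun k => l.get k
  have hd : Finset.univ.val.map d = μ := by
    rw [Fin.univ_val_map, List.ofFn_get, Multiset.coe_toList]
  have hd1 : ∀ k, 1 ≤ d k := fun k => hpos _ (Multiset.mem_toList.1 (List.get_mem _ _))
  have hds : ∑ k, d k = finrank F W := by rw [← hsum, ← hd]; rfl
  have hcnt : ∀ j, (Finset.univ.filter fun k => d k = j).card = μ.count j := fun j => by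
    rw [← hd, Multiset.count_map]
    exact congrArg Multiset.card (by rw [Finset.filter_val]; exact Multiset.filter_congr fun k _ => eq_comm)
  obtain ⟨C₀, hC₀, hnd⟩ := exists_quad_form (F := F) d (fun j => Even j ∧ 0 < j) hd1
    (fun j hj => by rw [hcnt]; exact hev j hj.1) (fun k hk hbad => Cfsg.Agent.S2583.block h2 hk hbad)
  obtain ⟨R, hR, e, A, hA⟩ := orthogonal_of_form d hds C₀ hC₀ hnd
  obtain ⟨m, hm⟩ := hodd
  let RW : QuadraticForm F W :=
    QuadraticMap.ofPolar (fun w : W => Q (w : ι → F)) (fun a w => by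
        simp only [Submodule.coe_smul, C.smul, smul_eq_mul, sq])
      (fun x x' y => by simp [QuadraticMap.polar, Submodule.coe_add, C.add]; ring)
      (fun a x y => by simp [QuadraticMap.polar, Submodule.coe_add, C.add, C.smul]; ring)
  have hRW : (QuadraticMap.polarBilin RW).Nondegenerate := by
    have key : ∀ x y : W, QuadraticMap.polarBilin RW x y = B x y := fun x y => C.polar _ _
    exact ⟨fun x hx => Subtype.ext (hW x x.2 fun y hy => by rw [← key x ⟨y, hy⟩]; exact hx _),
      fun x hx => Subtype.ext (hW x x.2 fun y hy => by rw [C.symm, ← key ⟨y, hy⟩ x]; exact hx _)⟩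
  obtain ⟨T, c, hc, hT⟩ := exists_similar_odd (m := m) (by rw [Module.finrank_fin_fun, hm]) hm R hR RW hRW
  set M := ((A : Matrix.GeneralLinearGroup (Fin (finrank F W)) F) : Matrix (Fin (finrank F W)) (Fin (finrank F W)) F)
  refine ⟨(T : _ →ₗ[F] W) ∘ₗ Matrix.toLinAlgEquiv' M ∘ₗ (T.symm : W →ₗ[F] _), fun w => ?_, fun j hj => ?_⟩
  · show RW (T (M *ᵥ T.symm w)) = RW w
    rw [hT, Cfsg.Lib.Linear.Orth.mem_iso.1 A.2, ← hT, T.apply_symm_apply]
  · have hk := kd_of_isConj d e hA
    have hkd : ∀ i, kd ((T : _ →ₗ[F] W) ∘ₗ Matrix.toLinAlgEquiv' M ∘ₗ (T.symm : W →ₗ[F] _) - 1) i + ∑ k, (d k - i)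
        = ∑ k, d k := fun i => by
      rw [kd_conj T (Matrix.toLinAlgEquiv' M - 1) _ (fun v => by simp) i]
      exact hk i
    rw [← hcnt, mu]
    have key : ∀ k, (d k - (j - 1)) + (d k - (j + 1)) = 2 * (d k - j) + if d k = j then 1 else 0 := fun k => by
      split_ifs <;> omega
    have h1 : ∑ k, (d k - (j - 1)) + ∑ k, (d k - (j + 1)) =
        2 * ∑ k, (d k - j) + (Finset.univ.filter (fun k => d k = j)).card := by
      rw [← Finset.sum_add_distrib, Finset.sum_congr rfl fun k _ => key k, Finset.sum_add_distrib, Finset.mul_sum,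
        Finset.card_filter]
    have := hkd (j - 1); have := hkd j; have := hkd (j + 1)
    omega

/-- An isometry of given type, when some size is odd. -/
theorem exists_unip (C : Space Q B) (h2 : (2 : F) ≠ 0) {μ : Multiset ℕ} (hpos : ∀ a ∈ μ, 0 < a)
    (hev : ∀ e, Even e → Even (μ.count e)) (hsum : μ.sum = Fintype.card ι) (hodd : ∃ a ∈ μ, Odd a) :
    ∃ g : End F (ι → F), (∀ v, Q (g v) = Q v) ∧ ∀ j, 1 ≤ j → mu (g - 1) j = μ.count j := by
  classical
  have htop : finrank F (⊤ : Submodule F (ι → F)) = Fintype.card ι := by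
    rw [finrank_top, finrank_fintype_fun_eq_card]
  rcases Nat.even_or_odd (Fintype.card ι) with hn | hn
  · obtain ⟨a, ha, hao⟩ := hodd
    have hle : a ≤ Fintype.card ι := hsum ▸ Multiset.le_sum_of_mem ha
    obtain ⟨b, -, hbQ, hbo⟩ := Cfsg.Lib.Linear.Orth.exists_orth_basis C h2 _ ⊤ C.ndeg_top htop
    let W : Submodule F (ι → F) := Submodule.span F (Set.range fun i : Fin a => b (Fin.castLE hle i))
    have hWd : finrank F W = a := by
      refine (finrank_span_eq_card ?_).trans (Fintype.card_fin a)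
      refine Fintype.linearIndependent_iff.mpr fun f hf j => ?_
      have h1 := congrArg (fun z => B z (b (Fin.castLE hle j))) hf
      simp only [map_sum, map_smul, LinearMap.sum_apply, LinearMap.smul_apply, map_zero, LinearMap.zero_apply] at h1
      rw [Finset.sum_eq_single j (fun l _ hl => by
          rw [hbo _ _ fun e => hl (Fin.castLE_injective hle e), smul_zero])
        (fun h => absurd (Finset.mem_univ j) h), C.self, smul_eq_mul] at h1
      exact (mul_eq_zero.mp h1).resolve_right (mul_ne_zero h2 (hbQ _))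
    have hW : NDeg B W := by
      intro x hx h
      obtain ⟨f, rfl⟩ := (Submodule.mem_span_range_iff_exists_fun F).mp hx
      refine Finset.sum_eq_zero fun j _ => ?_
      have h1 := h (b (Fin.castLE hle j)) (Submodule.subset_span ⟨j, rfl⟩)
      simp only [map_sum, map_smul, LinearMap.sum_apply, LinearMap.smul_apply] at h1
      rw [Finset.sum_eq_single j (fun l _ hl => by
          rw [hbo _ _ fun e => hl (Fin.castLE_injective hle e), smul_zero])
        (fun h => absurd (Finset.mem_univ j) h), C.self, smul_eq_mul] at h1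
      rw [(mul_eq_zero.mp h1).resolve_right (mul_ne_zero h2 (hbQ _)), zero_smul]
    have S : Split Q B (perpIn B ⊤ W) W := split_of_ndeg C hW
    set U := perpIn B ⊤ W
    have hc : IsCompl W U := ⟨Submodule.disjoint_def.2 fun x hx hxU => S.disj C hxU hx,
      codisjoint_iff.2 (by rw [sup_comm]; exact S.sup)⟩
    have hUd := S.finrank_add C
    have hρ : (μ.erase a).sum = finrank F U := by
      have h1 := congrArg Multiset.sum (Multiset.cons_erase ha)
      rw [Multiset.sum_cons, hsum] at h1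
      omega
    have hevρ : ∀ e, Even e → Even ((μ.erase a).count e) := fun e he => by
      rw [Multiset.count_erase_of_ne (by rintro rfl; exact Nat.not_even_iff_odd.2 hao he)]; exact hev e he
    have hevW : ∀ e, Even e → Even (({a} : Multiset ℕ).count e) := fun e he => by
      rw [Multiset.count_singleton, if_neg (by rintro rfl; exact Nat.not_even_iff_odd.2 hao he)]; exact Even.zero
    obtain ⟨gW, hgW, hmW⟩ := exists_on C h2 hW (hWd ▸ hao) (μ := {a}) (by simpa using hpos a ha) hevW
      (by rw [Multiset.sum_singleton, hWd])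
    obtain ⟨gU, hgU, hmU⟩ := exists_on C h2 S.ndU (by rw [Nat.even_iff] at hn; rw [Nat.odd_iff] at hao ⊢; omega)
      (μ := μ.erase a) (fun x hx => hpos x (Multiset.mem_of_mem_erase hx)) hevρ hρ
    let e := Submodule.prodEquivOfIsCompl W U hc
    let g : End F (ι → F) := (e : (W × U) →ₗ[F] _) ∘ₗ (gW.prodMap gU) ∘ₗ (e.symm : _ →ₗ[F] W × U)
    have hgp : ∀ (w : W) (u : U), g ((w : ι → F) + u) = (gW w : ι → F) + gU u := fun w u => by
      have h1 : e.symm ((w : ι → F) + u) = (w, u) := e.symm_apply_eq.2 (by simp [e])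
      show e ((gW.prodMap gU) (e.symm ((w : ι → F) + u))) = _
      rw [h1]
      simp [e]
    have hgw : ∀ w : W, g (w : ι → F) = gW w := fun w => by
      have h1 := hgp w 0
      simpa using h1
    have hgu : ∀ u : U, g (u : ι → F) = gU u := fun u => by
      have h1 := hgp 0 u
      simpa using h1
    refine ⟨g, fun v => ?_, fun j hj => ?_⟩
    · obtain ⟨u, hu, w, hw, rfl⟩ := S.parts C v
      rw [add_comm u w, show w + u = ((⟨w, hw⟩ : W) : ι → F) + ((⟨u, hu⟩ : U) : ι → F) from rfl, hgp, C.add, C.add,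
        hgW, hgU, C.symm _ (gU _ : ι → F), S.orth _ (gU _).2 _ (gW _).2, C.symm w u, S.orth u hu w hw]
    · have hWi : ∀ x ∈ W, (g - 1) x ∈ W := fun x hx => by
        show g x - x ∈ W
        rw [show x = ((⟨x, hx⟩ : W) : ι → F) from rfl, hgw]
        exact W.sub_mem (gW _).2 hx
      have hUi : ∀ x ∈ U, (g - 1) x ∈ U := fun x hx => by
        show g x - x ∈ U
        rw [show x = ((⟨x, hx⟩ : U) : ι → F) from rfl, hgu]
        exact U.sub_mem (gU _).2 hx
      have eW : (g - 1).restrict hWi = gW - 1 := LinearMap.ext fun x => Subtype.ext (by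
        show g (x : ι → F) - x = _; rw [hgw]; rfl)
      have eU : (g - 1).restrict hUi = gU - 1 := LinearMap.ext fun x => Subtype.ext (by
        show g (x : ι → F) - x = _; rw [hgu]; rfl)
      rw [mu_add _ hc hWi hUi hj, eW, eU, hmW j hj, hmU j hj, ← Multiset.count_add, Multiset.singleton_add,
        Multiset.cons_erase ha]
  · obtain ⟨g, hg, hm⟩ := exists_on C h2 C.ndeg_top (by rwa [htop]) hpos hev (by rw [htop, hsum])
    let T : (⊤ : Submodule F (ι → F)) ≃ₗ[F] (ι → F) := Submodule.topEquiv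
    refine ⟨(T : _ →ₗ[F] (ι → F)) ∘ₗ g ∘ₗ (T.symm : (ι → F) →ₗ[F] _), fun v => hg ⟨v, trivial⟩, fun j hj => ?_⟩
    rw [← hm j hj, mu, mu]
    simp only [kd_conj T (g - 1) ((T : _ →ₗ[F] (ι → F)) ∘ₗ g ∘ₗ (T.symm : (ι → F) →ₗ[F] _) - 1) (fun v => by simp)]

/-- An element of `Ω` of order `p` with given type, and what it fixes. -/
theorem exists_elt (C : Space Q B) (p : ℕ) [Fact p.Prime] [CharP F p] (h2 : (2 : F) ≠ 0)
    (hn : 2 ≤ Fintype.card ι) {μ : Multiset ℕ} (hpos : ∀ a ∈ μ, 0 < a ∧ a ≤ p)
    (hev : ∀ e, Even e → Even (μ.count e)) (hsum : μ.sum = Fintype.card ι) (hodd : ∃ a ∈ μ, Odd a)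
    (hbig : ∃ a ∈ μ, 2 ≤ a) :
    ∃ x : GL ι F, x ∈ Cfsg.Geo.omegaGL Q ∧ orderOf x = p ∧
      (∃ z : F, ((x ^ p : GL ι F) : Matrix ι ι F) = z • (1 : Matrix ι ι F)) ∧
      (∀ z : F, (x : Matrix ι ι F) ≠ z • (1 : Matrix ι ι F)) ∧
      ∀ W : Submodule F (ι → F), Cfsg.Geo.IsNondegenerateOn (QuadraticMap.polar Q) W →
        W.map (Matrix.toLin' (x : Matrix ι ι F)) ≤ W →
        ∃ ν : Multiset ℕ, ν ≤ μ ∧ ν.sum = finrank F W ∧ (∀ e, Even e → Even (ν.count e)) ∧
          ((∀ e ∈ ν, e = 2) → Cfsg.Geo.IsPlusTypeOn Q W) := by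
  classical
  obtain ⟨g, hg, hm⟩ := exists_unip C h2 (fun a ha => (hpos a ha).1) hev hsum hodd
  have hp := (Fact.out : p.Prime)
  have hgp : (g - 1) ^ p = 0 := pow_eq_zero_of_sum _ (by
    rw [finrank_fintype_fun_eq_card, ← hsum, Finset.sum_multiset_count_of_subset μ (Finset.range (p + 1))
      fun a ha => Finset.mem_range.2 (Nat.lt_succ_of_le (hpos a (Multiset.mem_toFinset.1 ha)).2)]
    refine Finset.sum_congr rfl fun j _ => ?_
    rcases Nat.eq_zero_or_pos j with rfl | hj
    · simp
    · rw [hm j hj, smul_eq_mul, mul_comm])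
  haveI : Nonempty ι := Fintype.card_pos_iff.1 (by omega)
  haveI : CharP (Matrix ι ι F) p := inferInstance
  set M := LinearMap.toMatrix' g with hM
  have hMact : ∀ v, M *ᵥ v = g v := fun v => LinearMap.toMatrix'_mulVec g v
  have hpow : M ^ p = 1 := by
    have h1 : (M - 1) ^ p = 0 := by
      rw [hM, show (1 : Matrix ι ι F) = LinearMap.toMatrix' (1 : End F (ι → F)) from LinearMap.toMatrix'_id.symm,
        ← map_sub]
      exact (map_pow LinearMap.toMatrixAlgEquiv' (g - 1) p).symm.trans (by rw [hgp, map_zero])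
    rw [sub_pow_char_of_commute (R := Matrix ι ι F) p (Commute.one_right M), one_pow, sub_eq_zero] at h1
    exact h1
  let x : GL ι F := Units.ofPowEqOne M p hpow hp.ne_zero
  have hxI : x ∈ Cfsg.isometryGroup F Q := mem_iso.2 fun v => by
    show Q (M *ᵥ v) = _
    rw [hMact, hg]
  have hxp : x ^ p = 1 := Units.pow_ofPowEqOne hpow hp.ne_zero
  have hp2 : p ≠ 2 := fun h => h2 (by
    subst h; exact CharTwo.two_eq_zero)
  have hns : ∀ z : F, (x : Matrix ι ι F) ≠ z • (1 : Matrix ι ι F) := by
    intro z hz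
    change M = z • 1 at hz
    have h1 := hpow
    rw [hz, _root_.smul_pow, one_pow] at h1
    have hz1 : z ^ p = 1 := by
      have h3 := congrFun (congrFun h1 (Classical.arbitrary ι)) (Classical.arbitrary ι)
      simpa using h3
    have hz2 : z = 1 := by
      have h3 : (z - 1) ^ p = 0 := by rw [sub_pow_char, hz1, one_pow, sub_self]
      exact sub_eq_zero.1 (pow_eq_zero_iff hp.ne_zero |>.1 h3)
    have hg1 : g - 1 = 0 := sub_eq_zero.2 (LinearMap.ext fun v => by
      rw [← hMact, hz, hz2, one_smul, Matrix.one_mulVec, End.one_apply])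
    have h4 := hm 1 le_rfl
    have k1 := kd_eq_of_pow_eq_zero (g - 1) (i := 1) (by rw [hg1, pow_one])
    have k2 := kd_eq_of_pow_eq_zero (g - 1) (i := 2) (by rw [hg1, zero_pow two_ne_zero])
    rw [mu, k1, k2, kd_zero, finrank_fintype_fun_eq_card, ← hsum] at h4
    obtain ⟨a, ha, ha2⟩ := hbig
    obtain ⟨ρ, rfl⟩ := Multiset.exists_cons_of_mem ha
    rw [Multiset.count_cons_of_ne (by omega), Multiset.sum_cons] at h4
    have h5 := Multiset.card_nsmul_le_sum (s := ρ) (a := 1) fun y hy => (hpos y (Multiset.mem_cons_of_mem hy)).1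
    have h6 := Multiset.count_le_card 1 ρ
    simp at h5
    omega
  refine ⟨x, Cfsg.Lib.Linear.IsoFix.mem_omegaGL_of_odd C hn (Or.inl fun h => h2 ?_) (hp.odd_of_ne_two hp2) ⟨x, hxI⟩
    (Subtype.ext hxp), orderOf_eq_prime hxp fun h => hns 1 (by rw [h, Units.val_one, one_smul]),
    ⟨1, by rw [hxp, Units.val_one, one_smul]⟩, hns, fun W hW hinv => ?_⟩
  · obtain ⟨k, -, hk⟩ := FiniteField.card F p
    rw [h] at hk
    exact absurd ((Nat.prime_dvd_prime_iff_eq hp Nat.prime_two).1 (hk ▸ dvd_pow_self p k.pos.ne')) hp2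
  · exact sub_type C h2 g hg hgp hpos hm (ndeg_of_geo C hW) fun y hy => by
      rw [← hMact]
      exact hinv ⟨y, hy, Matrix.toLin'_apply _ _⟩

end Space

section Partition

/-- It is enough to treat the types with an odd size. -/
theorem all_partitions {p n m : ℕ} (hp : Odd p) (hm : Even m) (hmn : m ≤ n)
    (h : ∀ μ : Multiset ℕ, (∀ e ∈ μ, 0 < e ∧ e ≤ p) → (∀ e, Even e → Even (μ.count e)) → μ.sum = n →
      (∃ a ∈ μ, Odd a) → (∃ a ∈ μ, 2 ≤ a) → ∃ ν, ν ≤ μ ∧ ν.sum = m ∧ ∀ e, Even e → Even (ν.count e)) :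
    ∀ μ : Multiset ℕ, (∀ e ∈ μ, 0 < e ∧ e ≤ p) → (∀ e, Even e → Even (μ.count e)) → μ.sum = n →
      ∃ ν, ν ≤ μ ∧ ν.sum = m ∧ ∀ e, Even e → Even (ν.count e) := by
  intro μ hpos hev hsum
  by_cases hbig : ∃ a ∈ μ, 2 ≤ a
  swap
  · push Not at hbig
    have hμ : μ = Multiset.replicate n 1 := by
      have h1 : ∀ a ∈ μ, a = 1 := fun a ha => by have := hpos a ha; have := hbig a ha; omega
      have h2 := Multiset.eq_replicate_card.2 h1
      rw [h2, Multiset.sum_replicate, smul_eq_mul, mul_one] at hsum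
      rw [h2, hsum]
    refine ⟨Multiset.replicate m 1, by rw [hμ]; exact (Multiset.replicate_le_replicate 1).2 hmn, by simp, fun e he => ?_⟩
    rw [Multiset.count_replicate, if_neg (by rintro rfl; simp at he)]
    exact Even.zero
  by_cases hodd : ∃ a ∈ μ, Odd a
  · exact h μ hpos hev hsum hodd hbig
  push Not at hodd
  obtain ⟨a, ha, ha2⟩ := hbig
  obtain ⟨b, rfl⟩ := even_iff_two_dvd.1 (Nat.not_odd_iff_even.1 (hodd a ha))
  have hc : 2 ≤ μ.count (2 * b) := by
    have h1 := hev _ (even_two_mul b)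
    have h3 := Multiset.count_pos.2 ha
    rw [Nat.even_iff] at h1
    omega
  obtain ⟨ρ, hρ⟩ := Multiset.le_iff_exists_add.1 (Multiset.le_count_iff_replicate_le.1 hc)
  have hρo : ∀ e ∈ ρ, Even e := fun e he =>
    Nat.not_odd_iff_even.1 (hodd e (hρ ▸ Multiset.mem_add.2 (Or.inr he)))
  let μ' := (2 * b - 1) ::ₘ (2 * b + 1) ::ₘ ρ
  have hb := (hpos _ ha)
  have hbp : 2 * b + 1 ≤ p := by rw [Nat.odd_iff] at hp; omega
  obtain ⟨ν', hle, hs, hν'⟩ := h μ' (by
      intro e he
      simp only [μ', Multiset.mem_cons] at he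
      rcases he with rfl | rfl | he
      · omega
      · omega
      · exact hpos e (hρ ▸ Multiset.mem_add.2 (Or.inr he)))
    (fun e he => by
      simp only [μ']
      rw [Multiset.count_cons_of_ne (by rintro rfl; rw [Nat.even_iff] at he; omega),
        Multiset.count_cons_of_ne (by rintro rfl; rw [Nat.even_iff] at he; omega)]
      have h1 := hev e he
      rw [hρ, Multiset.count_add, Multiset.count_replicate] at h1
      split_ifs at h1
      · simpa [Nat.even_add] using h1
      · simpa using h1)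
    (by
      rw [hρ, Multiset.sum_add, Multiset.sum_replicate, smul_eq_mul] at hsum
      simp only [μ', Multiset.sum_cons]
      omega)
    ⟨2 * b + 1, by simp [μ'], odd_two_mul_add_one b⟩ ⟨2 * b + 1, by simp [μ'], by omega⟩
  set A := ν'.filter (fun e => Even e) with hA
  set O := ν'.filter (fun e => ¬ Even e) with hO
  have hAle : A ≤ ρ := by
    refine (Multiset.filter_le_filter _ hle).trans ?_
    simp only [μ']
    rw [Multiset.filter_cons_of_neg _ (by rw [Nat.even_iff]; omega),
      Multiset.filter_cons_of_neg _ (by rw [Nat.even_iff]; omega)]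
    exact Multiset.filter_le _ _
  have hOle : O ≤ (2 * b - 1) ::ₘ (2 * b + 1) ::ₘ 0 := by
    refine (Multiset.filter_le_filter _ hle).trans (le_of_eq ?_)
    simp only [μ']
    rw [Multiset.filter_cons_of_pos _ (by rw [Nat.even_iff]; omega),
      Multiset.filter_cons_of_pos _ (by rw [Nat.even_iff]; omega),
      Multiset.filter_eq_nil.2 fun e he hne => hne (hρo e he)]
  have hne : 2 * b - 1 ≠ 2 * b + 1 := by omega
  have hO1 := Multiset.le_iff_count.1 hOle (2 * b - 1)
  have hO2 := Multiset.le_iff_count.1 hOle (2 * b + 1)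
  simp only [Multiset.count_cons_self, Multiset.count_cons_of_ne hne, Multiset.count_cons_of_ne hne.symm,
    Multiset.count_zero] at hO1 hO2
  have hOsum : O.sum = O.count (2 * b - 1) * (2 * b - 1) + O.count (2 * b + 1) * (2 * b + 1) := by
    rw [Finset.sum_multiset_count_of_subset O {2 * b - 1, 2 * b + 1} fun e he => by
      have := Multiset.subset_of_le hOle (Multiset.mem_toFinset.1 he)
      simpa using this, Finset.sum_pair hne, smul_eq_mul, smul_eq_mul]
  have hAev : Even A.sum := by
    have hgen : ∀ s : Multiset ℕ, (∀ e ∈ s, Even e) → Even s.sum := fun s => by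
      induction s using Multiset.induction with
      | empty => intro _; simp
      | cons e s ih =>
        intro he
        rw [Multiset.sum_cons]
        exact (he e (Multiset.mem_cons_self e s)).add (ih fun x hx => he x (Multiset.mem_cons_of_mem hx))
    exact hgen A fun e he => (Multiset.mem_filter.1 he).2
  have hsum' : m = A.sum + O.sum := by
    rw [← hs, ← Multiset.sum_add, hA, hO, Multiset.filter_add_not]
  obtain ⟨k, hk, hk1, hk2⟩ : ∃ k ≤ 1, O.count (2 * b - 1) = k ∧ O.count (2 * b + 1) = k := by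
    refine ⟨_, hO1, rfl, ?_⟩
    rw [Nat.even_iff] at hm hAev
    rcases Nat.le_one_iff_eq_zero_or_eq_one.1 hO1 with h1 | h1 <;>
      rcases Nat.le_one_iff_eq_zero_or_eq_one.1 hO2 with h2 | h2 <;> rw [h1, h2] at hOsum <;> omega
  refine ⟨A + Multiset.replicate (2 * k) (2 * b), ?_, ?_, fun e he => ?_⟩
  · rw [hρ, add_comm (Multiset.replicate 2 _)]
    exact add_le_add hAle (Multiset.replicate_le_replicate _ |>.2 (by omega))
  · rw [Multiset.sum_add, Multiset.sum_replicate, smul_eq_mul, hsum', hOsum, hk1, hk2,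
      ← mul_add, show 2 * b - 1 + (2 * b + 1) = 2 * (2 * b) by omega]
    ring
  · rw [Multiset.count_add, Multiset.count_replicate, hA, Multiset.count_filter, if_pos he]
    refine (hν' e he).add ?_
    split_ifs
    · exact even_two_mul k
    · exact Even.zero

end Partition

end Cfsg.Lib.Linear.JordanForms
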