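import Mathlib

/-!
# Forms on a single unipotent Jordan block

The algebra `F[N]/(N^d)` with the involution `1 + N ↦ (1 + N)⁻¹`; multiplication by `1 + N` is a Jordan block, and
forms `σ (a * star b)` are invariant under it.
-/

set_option autoImplicit false

namespace Cfsg.Lib.Linear.JordanForms

open Polynomial

variable {F : Type*} [Field F] {d : ℕ}

/-- `F[N]/(N^d)`. -/
abbrev A (F : Type*) [Field F] (d : ℕ) : Type _ := AdjoinRoot ((X : F[X]) ^ d)

/-- The nilpotent generator. -/
noncomputable def gen : A F d := AdjoinRoot.root _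

/-- The unipotent generator. -/
noncomputable def uu : A F d := 1 + gen

/-- The inverse of the unipotent generator. -/
noncomputable def vv : A F d := ∑ i ∈ Finset.range d, (-gen) ^ i

theorem gen_pow_self : (gen : A F d) ^ d = 0 := by
  rw [gen, ← AdjoinRoot.mk_X, ← map_pow, AdjoinRoot.mk_self]

theorem gen_pow_of_le {k : ℕ} (h : d ≤ k) : (gen : A F d) ^ k = 0 := pow_eq_zero_of_le h gen_pow_self

theorem uu_mul_vv : (uu : A F d) * vv = 1 := by
  have h := mul_neg_geom_sum (-(gen : A F d)) d
  rw [neg_pow, gen_pow_self, mul_zero, sub_zero, sub_neg_eq_add] at h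
  exact h

theorem vv_mul_uu : (vv : A F d) * uu = 1 := by rw [mul_comm, uu_mul_vv]

/-- The involution `1 + N ↦ (1 + N)⁻¹`. -/
noncomputable def st : A F d →ₐ[F] A F d :=
  AdjoinRoot.liftAlgHom _ (Algebra.ofId F (A F d)) (-(gen * vv)) (by
    simp only [eval₂_X_pow]
    rw [neg_pow, mul_pow, gen_pow_self, zero_mul, mul_zero])

theorem st_gen : st (gen : A F d) = -(gen * vv) := AdjoinRoot.liftAlgHom_root _ _ _ _

theorem st_uu : st (uu : A F d) = vv := by
  rw [uu, map_add, map_one, st_gen]
  have h : (gen : A F d) * vv = 1 - vv := by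
    have := uu_mul_vv (F := F) (d := d)
    rw [uu, add_mul, one_mul] at this
    exact eq_sub_of_add_eq' this
  rw [h]
  ring

theorem st_vv : st (vv : A F d) = uu := by
  have h := congrArg st (vv_mul_uu (F := F) (d := d))
  rw [map_mul, map_one, st_uu] at h
  calc st vv = st vv * (vv * uu) := by rw [vv_mul_uu, mul_one]
    _ = uu := by rw [← mul_assoc, h, one_mul]

theorem st_st (a : A F d) : st (st a) = a := by
  have h : (st (F := F) (d := d)).comp st = AlgHom.id F _ := by
    refine AdjoinRoot.algHom_ext ?_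
    show st (st (gen : A F d)) = gen
    rw [st_gen, map_neg, map_mul, st_gen, st_vv, neg_mul, neg_neg, mul_assoc, vv_mul_uu, mul_one]
  exact AlgHom.congr_fun h a

/-- The value at `N = 0`. -/
noncomputable def ev (hd : d ≠ 0) : A F d →ₐ[F] F :=
  AdjoinRoot.liftAlgHom _ (Algebra.ofId F F) 0 (by simp [zero_pow hd])

theorem ev_gen (hd : d ≠ 0) : ev hd (gen : A F d) = 0 := AdjoinRoot.liftAlgHom_root _ _ _ _

theorem ev_uu (hd : d ≠ 0) : ev hd (uu : A F d) = 1 := by rw [uu, map_add, map_one, ev_gen, add_zero]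

theorem ev_vv (hd : d ≠ 0) : ev hd (vv : A F d) = 1 := by
  have h := congrArg (ev hd) (vv_mul_uu (F := F) (d := d))
  rwa [map_mul, map_one, ev_uu, mul_one] at h

theorem ev_st (hd : d ≠ 0) (a : A F d) : ev hd (st a) = ev hd a := by
  have h : (ev (F := F) hd).comp st = ev hd := by
    refine AdjoinRoot.algHom_ext ?_
    show ev hd (st (gen : A F d)) = ev hd gen
    rw [st_gen, map_neg, map_mul, ev_gen, zero_mul, neg_zero]
  exact AlgHom.congr_fun h a

/-- The basis of powers of `N`. -/
noncomputable def bas : Module.Basis (Fin d) F (A F d) :=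
  (AdjoinRoot.powerBasis (pow_ne_zero d X_ne_zero)).basis.reindex (finCongr (by simp))

theorem bas_apply (i : Fin d) : (bas i : A F d) = gen ^ (i : ℕ) := by
  simp [bas, gen]

/-- The top coefficient. -/
noncomputable def top (hd : d ≠ 0) : A F d →ₗ[F] F := (bas (F := F)).coord ⟨d - 1, by omega⟩

theorem top_gen_pow (hd : d ≠ 0) : top hd ((gen : A F d) ^ (d - 1)) = 1 := by
  rw [show (gen : A F d) ^ (d - 1) = bas (⟨d - 1, by omega⟩ : Fin d) from (bas_apply (F := F) (d := d) ⟨d - 1, by omega⟩).symm, top]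
  simp

/-- Multiples of the socle only see constant terms. -/
theorem socle_mul (hd : d ≠ 0) (x : A F d) : gen ^ (d - 1) * x = ev hd x • gen ^ (d - 1) := by
  obtain ⟨p, rfl⟩ := AdjoinRoot.mk_surjective x
  induction p using Polynomial.induction_on' with
  | add p q hp hq => rw [map_add, map_add, mul_add, hp, hq, add_smul]
  | monomial n c =>
    rw [← C_mul_X_pow_eq_monomial, map_mul, map_pow, AdjoinRoot.mk_X, AdjoinRoot.mk_C]
    show gen ^ (d - 1) * (algebraMap F (A F d) c * gen ^ n) = ev hd (algebraMap F (A F d) c * gen ^ n) • gen ^ (d - 1)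
    rw [map_mul, map_pow, ev_gen, AlgHom.commutes, Algebra.smul_def]
    rcases Nat.eq_zero_or_pos n with rfl | hn
    · simp [mul_comm]
    · rw [zero_pow (by omega), mul_zero, map_zero, zero_mul, mul_left_comm, ← pow_add, gen_pow_of_le (by omega), mul_zero]

/-- Every non-zero element divides the socle generator. -/
theorem exists_mul_eq_socle {a : A F d} (ha : a ≠ 0) : ∃ x, a * x = gen ^ (d - 1) := by
  obtain ⟨p, rfl⟩ := AdjoinRoot.mk_surjective a
  have hp : p ≠ 0 := fun h => ha (by rw [h, map_zero])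
  obtain ⟨q, hpq, hq⟩ := Polynomial.exists_eq_pow_rootMultiplicity_mul_and_not_dvd p hp 0
  rw [map_zero, sub_zero] at hpq hq
  generalize rootMultiplicity 0 p = k at hpq
  have hk : k < d := by
    by_contra h
    push Not at h
    refine ha ?_
    rw [hpq, map_mul, map_pow, AdjoinRoot.mk_X]
    show gen ^ k * _ = 0
    rw [gen_pow_of_le h, zero_mul]
  obtain ⟨r, s, hrs⟩ : IsCoprime q ((X : F[X]) ^ d) :=
    ((Polynomial.irreducible_X.coprime_iff_not_dvd).2 hq).symm.pow_right
  have hunit : AdjoinRoot.mk ((X : F[X]) ^ d) q * AdjoinRoot.mk ((X : F[X]) ^ d) r = 1 := by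
    have := congrArg (AdjoinRoot.mk ((X : F[X]) ^ d)) hrs
    rw [map_add, map_mul, map_mul, AdjoinRoot.mk_self, mul_zero, add_zero, map_one] at this
    rw [mul_comm]; exact this
  refine ⟨gen ^ (d - 1 - k) * AdjoinRoot.mk _ r, ?_⟩
  rw [hpq, map_mul, map_pow, AdjoinRoot.mk_X]
  show gen ^ k * AdjoinRoot.mk _ q * (gen ^ (d - 1 - k) * AdjoinRoot.mk _ r) = _
  rw [mul_mul_mul_comm, ← pow_add, hunit, mul_one]
  congr 1; omega

/-- The bilinear form `τ (a * star b)`. -/
noncomputable def frm (τ : A F d →ₗ[F] F) : LinearMap.BilinForm F (A F d) :=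
  LinearMap.mk₂ F (fun a b => τ (a * st b)) (fun a a' b => by rw [add_mul, map_add])
    (fun c a b => by rw [smul_mul_assoc, map_smul]) (fun a b b' => by rw [map_add, mul_add, map_add])
    fun c a b => by rw [map_smul, mul_smul_comm, map_smul]

theorem frm_apply (τ : A F d →ₗ[F] F) (a b : A F d) : frm τ a b = τ (a * st b) := rfl

theorem frm_uu (τ : A F d →ₗ[F] F) (a b : A F d) : frm τ (uu * a) (uu * b) = frm τ a b := by
  rw [frm_apply, frm_apply, map_mul (st (F := F) (d := d)), st_uu, mul_mul_mul_comm, uu_mul_vv, one_mul]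

theorem frm_nondeg (τ : A F d →ₗ[F] F) (hτ : τ (gen ^ (d - 1)) ≠ 0) {a : A F d} (ha : a ≠ 0) :
    ∃ b, frm τ a b ≠ 0 := by
  obtain ⟨x, hx⟩ := exists_mul_eq_socle ha
  exact ⟨st x, by rw [frm_apply, st_st, hx]; exact hτ⟩

/-- A functional on a block with the given behaviour under the involution. -/
theorem exists_tau (h2 : (2 : F) ≠ 0) (hd : d ≠ 0) :
    ∃ τ : A F d →ₗ[F] F, τ (gen ^ (d - 1)) ≠ 0 ∧ ∀ a, τ (st a) = (-1) ^ (d - 1) * τ a := by
  refine ⟨top hd + ((-1 : F) ^ (d - 1)) • (top hd).comp st.toLinearMap, ?_, fun a => ?_⟩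
  · have h : st ((gen : A F d) ^ (d - 1)) = ((-1 : F) ^ (d - 1)) • gen ^ (d - 1) := by
      rw [map_pow, st_gen, neg_pow, mul_pow, socle_mul hd, map_pow, ev_vv, one_pow, one_smul, Algebra.smul_def,
        map_pow, map_neg, map_one]
    simp only [LinearMap.add_apply, LinearMap.smul_apply, LinearMap.comp_apply, AlgHom.toLinearMap_apply, h, map_smul,
      top_gen_pow, smul_eq_mul, mul_one, ← mul_pow, neg_mul_neg, one_pow]
    rwa [one_add_one_eq_two]
  · simp only [LinearMap.add_apply, LinearMap.smul_apply, LinearMap.comp_apply, AlgHom.toLinearMap_apply, st_st,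
      smul_eq_mul]
    rw [mul_add, ← mul_assoc, ← mul_pow, neg_mul_neg, one_mul, one_pow, one_mul, add_comm]

/-- The projection forgetting the socle. -/
noncomputable def proj : A F (d + 1) →ₐ[F] A F d :=
  AdjoinRoot.liftAlgHom _ (Algebra.ofId F (A F d)) gen (by
    simp only [eval₂_X_pow]; exact gen_pow_of_le (Nat.le_succ d))

theorem proj_gen : proj (gen : A F (d + 1)) = gen := AdjoinRoot.liftAlgHom_root _ _ _ _

theorem proj_uu : proj (uu : A F (d + 1)) = uu := by rw [uu, map_add, map_one, proj_gen]; rfl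

theorem proj_st (a : A F (d + 1)) : proj (st a) = st (proj a) := by
  have h : (proj (F := F) (d := d)).comp st = st.comp proj := by
    refine AdjoinRoot.algHom_ext ?_
    show proj (st (gen : A F (d + 1))) = st (proj gen)
    have hv : proj (vv : A F (d + 1)) = vv := by
      have h := congrArg proj (vv_mul_uu (F := F) (d := d + 1))
      rw [map_mul, map_one, proj_uu] at h
      calc proj vv = proj vv * (uu * vv) := by rw [uu_mul_vv, mul_one]
        _ = vv := by rw [← mul_assoc, h, one_mul]
    rw [st_gen, map_neg, map_mul, proj_gen, hv, st_gen]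
  exact AlgHom.congr_fun h a

/-- The section of `proj` on the basis of powers. -/
noncomputable def sec : A F d →ₗ[F] A F (d + 1) := bas.constr F fun i => gen ^ (i : ℕ)

theorem proj_sec (a : A F d) : proj (sec a) = a := by
  have h : (proj (F := F) (d := d)).toLinearMap.comp sec = LinearMap.id := bas.ext fun i => by
    rw [LinearMap.comp_apply, sec, Module.Basis.constr_basis, AlgHom.toLinearMap_apply, map_pow, proj_gen,
      LinearMap.id_apply, bas_apply]
  exact LinearMap.congr_fun h a

theorem proj_eq {x y : A F (d + 1)} (h : proj x = proj y) : ∃ c : F, x = y + c • gen ^ d := by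
  have hrepr : ∀ z : A F (d + 1), z = sec (proj z) + (bas (F := F)).coord (Fin.last d) z • gen ^ d := fun z => by
    have h1 : LinearMap.id = (sec (F := F) (d := d)).comp proj.toLinearMap +
        ((bas (F := F)).coord (Fin.last d)).smulRight (gen ^ d) := bas.ext fun i => by
      induction i using Fin.lastCases with
      | last =>
        simp only [LinearMap.add_apply, LinearMap.comp_apply, AlgHom.toLinearMap_apply, LinearMap.smulRight_apply,
          bas_apply, Fin.val_last, map_pow, proj_gen, gen_pow_self, map_zero, zero_add, LinearMap.id_apply]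
        rw [show (gen : A F (d + 1)) ^ d = bas (Fin.last d) from (bas_apply (F := F) (d := d + 1) (Fin.last d)).symm]
        simp
      | cast i =>
        simp only [LinearMap.add_apply, LinearMap.comp_apply, AlgHom.toLinearMap_apply, LinearMap.smulRight_apply,
          LinearMap.id_apply]
        rw [show proj (bas (F := F) i.castSucc) = bas i by rw [bas_apply, bas_apply, map_pow, proj_gen]; rfl,
          sec, Module.Basis.constr_basis]
        rw [show (bas (F := F)).coord (Fin.last d) (bas i.castSucc) = 0 by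
          simp [Module.Basis.coord_apply, (Fin.castSucc_lt_last i).ne]]
        simp [bas_apply]
    exact LinearMap.congr_fun h1 z
  refine ⟨(bas (F := F)).coord (Fin.last d) x - (bas (F := F)).coord (Fin.last d) y, ?_⟩
  rw [sub_smul]
  nth_rewrite 1 [hrepr x]
  nth_rewrite 1 [hrepr y]
  rw [h]
  abel

theorem socle_succ (x : A F (d + 1)) : gen ^ d * x = ev (Nat.succ_ne_zero d) x • gen ^ d := by
  simpa using socle_mul (Nat.succ_ne_zero d) x

theorem one_add_pow_expand {R : Type*} [CommRing R] (x : R) (n : ℕ) : ∃ r, (1 + x) ^ n = 1 + n * x + x ^ 2 * r := by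
  induction n with
  | zero => exact ⟨0, by simp⟩
  | succ n ih =>
    obtain ⟨r, hr⟩ := ih
    exact ⟨r + (n : R) + x * r, by rw [pow_succ, hr]; push_cast; ring⟩

section CharTwo

variable [CharP F 2]

/-- The bilinear form whose diagonal is the invariant quadratic form of a block of even size. -/
noncomputable def qfrm (d : ℕ) : LinearMap.BilinForm F (A F d) :=
  (frm (top (Nat.succ_ne_zero d))).compl₁₂ sec sec

theorem qfrm_apply (a b : A F d) : qfrm d a b = top (Nat.succ_ne_zero d) (sec a * st (sec b)) := rfl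

theorem two_smul_eq_zero {M : Type*} [AddCommGroup M] [Module F M] (z : M) : z + z = 0 := by
  rw [← two_smul F z, CharTwo.two_eq_zero, zero_smul]

theorem st_socle : st ((gen : A F (d + 1)) ^ d) = gen ^ d := by
  rw [map_pow, st_gen, neg_pow, mul_pow, socle_succ, map_pow, ev_vv, one_pow, one_smul]
  have : (-1 : A F (d + 1)) = 1 := by
    rw [← map_one (algebraMap F (A F (d + 1))), ← map_neg, CharTwo.neg_eq]
  rw [this, one_pow, one_mul]

theorem qfrm_uu (hd : d ≠ 0) (a : A F d) : qfrm d (uu * a) (uu * a) = qfrm d a a := by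
  obtain ⟨c, hc⟩ := proj_eq (x := sec (uu * a)) (y := uu * sec a) (by rw [proj_sec, map_mul, proj_uu, proj_sec])
  rw [qfrm_apply, qfrm_apply]
  congr 1
  rw [hc, map_add, map_smul, st_socle, map_mul, st_uu, add_mul, mul_add, mul_add, mul_mul_mul_comm, uu_mul_vv, one_mul,
    add_assoc, add_eq_left, smul_mul_assoc, smul_mul_assoc, mul_smul_comm, mul_smul_comm, mul_comm (uu * sec a),
    socle_succ, socle_succ, ← pow_add, gen_pow_of_le (show d + 1 ≤ d + d by omega), smul_zero, smul_zero, add_zero, map_mul, map_mul,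
    ev_uu, ev_vv, ev_st, one_mul]
  exact two_smul_eq_zero (F := F) _

theorem qfrm_polar_nondeg (hd : d ≠ 0) (hev : Even d) {a : A F d} (ha : a ≠ 0) :
    ∃ b, qfrm d a b + qfrm d b a ≠ 0 := by
  obtain ⟨x, hx⟩ := exists_mul_eq_socle ha
  refine ⟨st x, ?_⟩
  obtain ⟨c, hc⟩ := proj_eq (x := sec (st x)) (y := st (sec x)) (by rw [proj_sec, proj_st, proj_sec])
  obtain ⟨c', hc'⟩ := proj_eq (x := sec a * sec x) (y := gen ^ (d - 1))
    (by rw [map_mul, proj_sec, proj_sec, map_pow, proj_gen]; exact hx)
  have hval : sec a * st (sec (st x)) + sec (st x) * st (sec a) = gen ^ (d - 1) + st ((gen : A F (d + 1)) ^ (d - 1)) := by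
    rw [hc, map_add, map_smul, st_socle, st_st, mul_add, add_mul, hc', mul_smul_comm, smul_mul_assoc,
      mul_comm (sec a) (gen ^ d), socle_succ, socle_succ, ev_st, ← map_mul, mul_comm (sec x) (sec a), hc', map_add,
      map_smul, st_socle]
    calc _ = gen ^ (d - 1) + st ((gen : A F (d + 1)) ^ (d - 1)) + ((c' • gen ^ d + c' • gen ^ d) +
          (c • ev (Nat.succ_ne_zero d) (sec a) • gen ^ d + c • ev (Nat.succ_ne_zero d) (sec a) • (gen : A F (d + 1)) ^ d)) := by
          abel
      _ = _ := by rw [two_smul_eq_zero (F := F), two_smul_eq_zero (F := F), add_zero, add_zero]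
  rw [qfrm_apply, qfrm_apply, ← map_add, hval]
  obtain ⟨r, hr⟩ := one_add_pow_expand (gen : A F (d + 1)) (d - 1)
  have hodd : ((d - 1 : ℕ) : A F (d + 1)) = 1 := by
    obtain ⟨j, hj⟩ := hev
    rw [← map_natCast (algebraMap F (A F (d + 1))), show d - 1 = 2 * (j - 1) + 1 by omega, Nat.cast_add, Nat.cast_mul,
      Nat.cast_ofNat, CharTwo.two_eq_zero, zero_mul, Nat.cast_one, zero_add, map_one]
  have hneg : (-1 : A F (d + 1)) = 1 := by
    rw [← map_one (algebraMap F (A F (d + 1))), ← map_neg, CharTwo.neg_eq]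
  have hU : ((gen : A F (d + 1)) ^ (d - 1) + st ((gen : A F (d + 1)) ^ (d - 1))) * uu ^ (d - 1) = gen ^ d * uu ^ (d - 1) := by
    have h1 : gen ^ (d - 1) * uu ^ (d - 1) + gen ^ (d - 1) = (gen : A F (d + 1)) ^ d := by
      rw [show (uu : A F (d + 1)) = 1 + gen from rfl, hr, hodd, one_mul, mul_add, mul_add, mul_one, ← pow_succ,
        ← mul_assoc, ← pow_add, gen_pow_of_le (show d + 1 ≤ d - 1 + 2 by omega), zero_mul, add_zero,
        show d - 1 + 1 = d by omega, add_right_comm, two_smul_eq_zero (F := F), zero_add]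
    rw [add_mul, map_pow, st_gen, neg_pow, hneg, one_pow, one_mul, mul_pow, mul_assoc, ← mul_pow vv uu, vv_mul_uu, one_pow,
      mul_one, h1, socle_succ, map_pow, ev_uu, one_pow, one_smul]
  have hUu : IsUnit ((uu : A F (d + 1)) ^ (d - 1)) := (IsUnit.of_mul_eq_one _ uu_mul_vv).pow _
  rw [hUu.mul_right_cancel hU]
  have := top_gen_pow (F := F) (Nat.succ_ne_zero d)
  rw [Nat.succ_sub_one] at this
  rw [this]
  exact one_ne_zero

end CharTwo

end Cfsg.Lib.Linear.JordanForms
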